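import Cfsg.Agent.Mrg.Omega.EH3.Top
import Cfsg.Agent.Mrg.Omega.EH3.RowS.Far


/-!
# EH3, row S: `⟨A, M₀⟩ = G` (helper754)

* `tri` : `Main.STriple → Tri`;
* `not_far` : in the `S₃`-case there is no `Far` pair (row `D_n` of LEMMA CC, helper165);
* `top_of_lev` : `A ⊔ M₀ = ⊤` (`hB` = Bender, `EH3.Top.eq_top`).
-/

set_option autoImplicit false

namespace Cfsg.Agent.Omega.EH3.RowS.Top

open Cfsg Subgroup Cfsg.Agent.Co2Type.Quad Cfsg.Agent.LargeExtra Cfsg.Agent.LargeExtra.Base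

universe u

theorem tri {H V : Type u} [Group H] [AddCommGroup V] [Module (ZMod 2) V] {ρ : H →* (V ≃ₗ[ZMod 2] V)}
    {X L : Subgroup H} {d t : H} (h : Main.STriple ρ X L d t) : Tri ρ X L d t :=
  ⟨h.t_mem, h.t_sq, h.d_ord, h.conj, h.t_cent, h.d_cent, h.d_fix, h.d_norm⟩

variable {G : Type u} [Group G] [Finite G] {Q A : Subgroup G} {z a : G} {w : ℕ}

/-- no `Far` pair -/
theorem not_far (S : Main.Sit Q A z a w) {L : Subgroup S.pair.H} (hN : L.Normal) (hq : IsQuasisimple L)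
    (hZ : Odd (Nat.card (center L))) {d t : S.pair.H} (T : Main.STriple S.ρ S.X L d t) (g : G) :
    ¬ CCTop.Far Q z g := by
  intro hf
  refine All.DN.dn_conj (ten S.pair S.cfg (tri T) hN hq hZ) ((tri T).card_ge S.cfg hN hq hZ)
    (hf.two S.pair.lz) (g := 1) (k := g) (by group) (fun x hx => ?_) (fun x hx => ?_) rfl
    (fun x hx => ⟨x, hx, rfl⟩) (fun x hx => ?_)
  · rwa [one_mul, inv_one, mul_one]
  · rwa [one_mul, inv_one, mul_one] at hx
  · have h1 := CCTop.mem_map_conj.1 hx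
    have e : g⁻¹ * (g * x * g⁻¹) * g = x := by group
    rwa [e] at h1

/-- **`⟨A, M₀⟩ = G`** -/
theorem top_of_lev (S : Main.Sit Q A z a w) {L : Subgroup S.pair.H} (hN : L.Normal) (hq : IsQuasisimple L)
    (hZ : Odd (Nat.card (center L))) {d t : S.pair.H} (T : Main.STriple S.ρ S.X L d t)
    {Sg M0 : Subgroup G} (e : ThmID.Lev Q A z a Sg M0)
    (hB : ∀ H : Subgroup G, IsStronglyEmbedded H →
      ∃ R : Subgroup G, Cfsg.Agent.StrongEmb.Split.IsSplit H R) : A ⊔ M0 = ⊤ :=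
  Top.eq_top S e (not_far S hN hq hZ T) hB

end Cfsg.Agent.Omega.EH3.RowS.Top
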