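import Cfsg.Agent.Mrg.Omega.EH3.RowS.Known
import Cfsg.Agent.Mrg.Omega.EH3.RowS.Top
import Cfsg.Agent.Mrg.Omega.EH3.Bender


/-!
# EH3: the `S₃`-case `Main.RowS` (helper888, helper754, helper73)
-/

set_option autoImplicit false

namespace Cfsg.Agent.Omega.EH3.RowS.Assemble

open Cfsg
open Cfsg.Agent.Omega.Frame (Cls All)

universe u

/-- in the `S₃`-case `⟨A, M0⟩ = G` -/
theorem topS : Known.TopS.{u} :=
  fun _ _ _ _ _ _ _ _ S _ hN hq hZ _ _ T _ e => Top.top_of_lev S hN hq hZ T e (Bender.hB S.ctx)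

/-- **The `S₃`-case** -/
theorem rowS (K : Cls.{u}) : Main.RowS K := Known.rowS_of_top topS K

/-- the `S₃`-case for all groups -/
theorem rowS_all : Main.RowS.{u} All := rowS All

end Cfsg.Agent.Omega.EH3.RowS.Assemble
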