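import Cfsg.Agent.Mrg.Omega.EH3.RowS.Front
import Cfsg.Agent.Omega.EH3.RowS.Refl

section


/-!
# EH3, row S: `H / (⟨d,t⟩ × L)` is a 2-group (helper754)

* `Tri.sq_mem_L` : `k * k ∈ L` for `k ∈ HH d t`;
* `Tri.sq_mem` : `h * h ∈ ⟨d,t⟩ ⊔ L` for all `h : H`;
* `Tri.odd_mem` : elements of odd order of `H` lie in `⟨d,t⟩ ⊔ L`.
-/

set_option autoImplicit false

namespace Cfsg.Agent.Omega.EH3.RowS

open Subgroup

namespace Tri

variable {H V : Type*} [Group H] [AddCommGroup V] [Module (ZMod 2) V]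
  {ρ : H →* (V ≃ₗ[ZMod 2] V)} {b : LinearMap.BilinForm (ZMod 2) V} {q : V → ZMod 2}
  {a : V} {D : Submodule (ZMod 2) V} {X : Subgroup H} {w : ℕ} {L : Subgroup H} {d t : H}

variable (C : Cfg ρ b q a D X w) (S : Tri ρ X L d t)
include C S

theorem sq_mem_L (hN : L.Normal) (hq : IsQuasisimple L) (hZ : Odd (Nat.card (center L))) {k : H}
    (hk : k ∈ HH d t) : k * k ∈ L := by
  obtain ⟨Q, hQ⟩ := S.exists_QD C hN hq hZ
  have h := hQ.sq_mem (S.ab C hN hq hZ) ⟨k, hk⟩
  exact h

omit C in
theorem closure_comm {s k : H} (hs : s ∈ closure {d, t}) (hk : k ∈ HH d t) : s * k = k * s := by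
  have h : closure {d, t} ≤ centralizer {k} := by
    rw [closure_le]
    rintro x (rfl | rfl)
    · exact mem_centralizer_singleton_iff.2 (mem_HH.1 hk).1
    · exact mem_centralizer_singleton_iff.2 (mem_HH.1 hk).2
  exact mem_centralizer_singleton_iff.1 (h hs)

theorem sq_mem (hN : L.Normal) (hq : IsQuasisimple L) (hZ : Odd (Nat.card (center L))) (h : H) :
    h * h ∈ closure {d, t} ⊔ L := by
  obtain ⟨s, hs, k, hk, rfl⟩ := S.exists_split C hN hq hZ h
  have e : s * k * (s * k) = (s * s) * (k * k) := by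
    have := S.closure_comm hs hk
    calc s * k * (s * k) = s * (k * s) * k := by group
      _ = s * (s * k) * k := by rw [this]
      _ = _ := by group
  rw [e]
  exact mul_mem (mem_sup_left (mul_mem hs hs)) (mem_sup_right (S.sq_mem_L C hN hq hZ hk))

theorem odd_mem (hN : L.Normal) (hq : IsQuasisimple L) (hZ : Odd (Nat.card (center L))) {h : H}
    (ho : Odd (orderOf h)) : h ∈ closure {d, t} ⊔ L := by
  obtain ⟨n, hn⟩ := ho
  have h1 := S.sq_mem C hN hq hZ h
  have h2 : h = (h * h) ^ (n + 1) := by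
    have h3 := pow_orderOf_eq_one h
    rw [hn] at h3
    rw [← pow_two, ← pow_mul, show 2 * (n + 1) = (2 * n + 1) + 1 by ring, pow_succ, h3, one_mul]
  rw [h2]
  exact pow_mem h1 _

end Tri

end Cfsg.Agent.Omega.EH3.RowS

end

section


/-!
# RowS, BACK (helper73), part 8a: `⟨d,t⟩ = C_H(L)`, `⟨d,t⟩ ⊔ L` is normal and contains `X`
-/

set_option autoImplicit false

namespace Cfsg.Agent.Omega.EH3.RowS.NormE

open Subgroup

variable {H V : Type*} [Group H] [AddCommGroup V] [Module (ZMod 2) V]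
  {ρ : H →* (V ≃ₗ[ZMod 2] V)} {b : LinearMap.BilinForm (ZMod 2) V} {q : V → ZMod 2}
  {a : V} {D : Submodule (ZMod 2) V} {X : Subgroup H} {w : ℕ} {L : Subgroup H} {d t : H}

variable (C : Cfg ρ b q a D X w) (S : Tri ρ X L d t)
include C S

theorem closure_eq (hN : L.Normal) (hq : IsQuasisimple L) (hZ : Odd (Nat.card (center L))) :
    closure {d, t} = centralizer (L : Set H) := by
  have hd : (d : H) ∈ closure {d, t} := subset_closure (by simp)
  have ht : (t : H) ∈ closure {d, t} := subset_closure (by simp)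
  apply le_antisymm
  · intro s hs
    exact mem_centralizer_iff.2 fun l hl => (S.closure_comm hs (S.L_le hl)).symm
  · intro g hg
    rcases S.cent_L C hN hq hZ (fun l hl => mem_centralizer_iff.1 hg l hl) with h | h | h | h | h | h
    · rw [h]; exact one_mem _
    · rw [h]; exact ht
    · rw [h]; exact hd
    · rw [h]; exact mul_mem hd ht
    · rw [h]; exact inv_mem hd
    · rw [h]; exact mul_mem (inv_mem hd) ht

theorem closure_normal (hN : L.Normal) (hq : IsQuasisimple L) (hZ : Odd (Nat.card (center L))) :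
    (closure {d, t}).Normal := by
  rw [closure_eq C S hN hq hZ]
  constructor
  intro c hc g
  rw [mem_centralizer_iff] at hc ⊢
  intro l hl
  have h1 : g⁻¹ * l * g ∈ L := by
    have := hN.conj_mem l hl g⁻¹
    rwa [inv_inv] at this
  have h2 := hc _ h1
  calc l * (g * c * g⁻¹) = g * ((g⁻¹ * l * g) * c) * g⁻¹ := by group
    _ = g * (c * (g⁻¹ * l * g)) * g⁻¹ := by rw [h2]
    _ = _ := by group

theorem sup_normal (hN : L.Normal) (hq : IsQuasisimple L) (hZ : Odd (Nat.card (center L))) :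
    (closure {d, t} ⊔ L).Normal := by
  have := closure_normal C S hN hq hZ
  exact Subgroup.sup_normal _ _

theorem X_le_sup (hN : L.Normal) (hq : IsQuasisimple L) (hZ : Odd (Nat.card (center L))) :
    X ≤ closure {d, t} ⊔ L := by
  have ht : (t : H) ∈ closure {d, t} := subset_closure (by simp)
  intro x hx
  rcases S.X_split C hx with h | h
  · exact mem_sup_right (S.X_le C hN hq hZ ⟨hx, h⟩)
  · have h1 : t * x ∈ L := S.X_le C hN hq hZ ⟨mul_mem S.t_mem hx, h⟩
    have h2 : x = t⁻¹ * (t * x) := by group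
    rw [h2]
    exact mul_mem (mem_sup_left (inv_mem ht)) (mem_sup_right h1)

end Cfsg.Agent.Omega.EH3.RowS.NormE

end
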