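import Cfsg.Agent.Mrg.Omega.EH3.RowS.OGrp
import Cfsg.Agent.Mrg.ParSys.FreeTrans
import Cfsg.Agent.Mrg.ParSys.RootEpsBD
import Cfsg.Agent.Mrg.Omega.EH3.RowS.FrontTwo
import Cfsg.Agent.Mrg.ParSys.Fam.Rgd
import Cfsg.Agent.Nodes.TypeD

section


/-!
# RowS, BACK (helper73), part 5: the system `XSys` of the group generated by the Siegel maps

`WOut ρ a o M q N T B P` : `XSys T B P M q`, the parabolics `P j`, `j ≠ o`, fix `a`, `P o` does not, `C_U(T) = ⟨a⟩`, `|T| = N`.
`out_D` (plus type), `out_C` (minus type).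
-/

set_option autoImplicit false

namespace Cfsg.Agent.Omega.EH3.RowS.XWitt

open CoxeterSystem Cfsg.Agent.ChevalleyStructure.CoxeterGeom Cfsg.Agent.Tits.Roots Cfsg.Agent.Tits.Core
  Cfsg.Agent.Nodes.Reps Cfsg.Agent.Nodes.BNOf Cfsg.Agent.Nodes.StabComb Cfsg.Agent.Nodes.Bruhat
  Cfsg.Agent.Nodes.LeviDec Cfsg.Agent.Nodes.NormalForm Cfsg.Agent.ParSys Cfsg.Agent.ParSys.Words
  Cfsg.Agent.Omega.ThmID Cfsg.Agent.ParSys.FreeCount
open Cfsg.Agent.TitsThree.Siegel Cfsg.Agent.TitsThree.SiegelGen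
  Cfsg.Agent.TitsThree.WittFrame Cfsg.Agent.TitsThree.WBridge Cfsg.Agent.TitsThree.WittWeyl
  Cfsg.Agent.Nodes.WittAll Cfsg.Agent.Nodes.WittRoot Cfsg.Agent.Nodes.WittU Cfsg.Agent.Nodes.RGDLib
open Cfsg.Agent.Omega.EH3.RowS Cfsg.Agent.Omega.EH3.RowS.WF Cfsg.Agent.Omega.EH3.RowS.XProd

/-! ### Generalities -/

section rgd

variable {I W Y : Type*} [Fintype I] [DecidableEq I] [Group W] [Group Y] {M : CoxeterMatrix I}
  {cs : CoxeterSystem M W} {A : I → I → ℤ} {h : IsCartan M A} {p : ℕ} {T : Subgroup Y} {n : I → Y}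
  {X : (I → ℤ) → Subgroup Y} (R : RGD cs h p T n X)

include R

theorem n_mem_P [Finite W] (i : I) : n i ∈ PJ cs h T X {i} ∧ n i ∉ RGD.B cs h T X :=
  (mem_P_iff R).2 (cell_of_rp (rp_simple cs R.nsys i))

/-- a subgroup containing `B` and `n_i` contains `P_i` -/
theorem PJ_le [Finite W] {S0 : Subgroup Y} (hT : T ≤ S0) (hX : ∀ x, IsRoot cs h x → 0 ≤ x → X x ≤ S0) {i : I}
    (hn : n i ∈ S0) : PJ cs h T X {i} ≤ S0 := by
  have hB : RGD.B cs h T X ≤ S0 := sup_le hT (iSup_le fun z => hX _ z.2.1 z.2.2)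
  intro x hx
  by_cases hxB : x ∈ RGD.B cs h T X
  · exact hB hxB
  · obtain ⟨b₁, hb₁, k, hk, b₂, hb₂, rfl⟩ := (mem_P_iff R).1 ⟨hx, hxB⟩
    have h1 : (n i)⁻¹ * k ∈ T := (rp_simple cs R.nsys i).unique hk
    have h2 := mul_mem hn (hT h1)
    rw [mul_inv_cancel_left] at h2
    exact mul_mem (mul_mem (hB hb₁) h2) (hB hb₂)

theorem xtr [Finite W] : XTr (RGD.B cs h T X) (fun j => PJ cs h T X {j}) where
  ex j := ⟨n j, n_mem_P R j⟩
  tr j x hx hxB y hy hyB := by
    have hred : cs.IsReduced [j] := by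
      show cs.length (cs.wordProd [j]) = 1
      rw [wordProd_singleton, cs.length_simple]
    obtain ⟨b, hb, h1⟩ := trans_gal R hred (l := [x]) (l' := [y]) ⟨⟨hx, hxB⟩, trivial⟩ ⟨⟨hy, hyB⟩, trivial⟩
    refine ⟨b, hb, ?_⟩
    have h2 : (b * x)⁻¹ * (1 * y) ∈ RGD.B cs h T X := h1.2
    rwa [one_mul] at h2

end rgd

/-! ### The output -/

section out

variable {U : Type*} [AddCommGroup U] [Module (ZMod 2) U]

/-- the output -/
structure WOut {Y : Type*} [Group Y] (ρ : Y →* (U ≃ₗ[ZMod 2] U)) (a : U) {J : Type*} (o : J) (M : J → J → ℕ)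
    (q : J → ℕ) (N : ℕ) (T B : Subgroup Y) (P : J → Subgroup Y) : Prop where
  sys : XSys T B P M q
  tr : XTr B P
  fix : ∀ j, j ≠ o → ∀ x ∈ P j, ρ x a = a
  mov : ∃ x ∈ P o, ρ x a ≠ a
  cen : ∀ v, (∀ x ∈ T, ρ x v = v) → v = 0 ∨ v = a
  card : Nat.card T = N

/-- the stabiliser of a vector -/
def St {Y : Type*} [Group Y] (ρ : Y →* (U ≃ₗ[ZMod 2] U)) (a : U) : Subgroup Y where
  carrier := {x | ρ x a = a}
  mul_mem' {x y} hx hy := by
    show ρ (x * y) a = a
    rw [map_mul]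
    show ρ x (ρ y a) = a
    rw [hy, hx]
  one_mem' := by
    show ρ 1 a = a
    rw [map_one]; rfl
  inv_mem' {x} hx := by
    show ρ x⁻¹ a = a
    have h1 : ρ x⁻¹ (ρ x a) = a := by
      rw [map_inv]
      exact (ρ x).symm_apply_apply a
    rwa [hx] at h1

theorem mem_St {Y : Type*} [Group Y] {ρ : Y →* (U ≃ₗ[ZMod 2] U)} {a : U} {x : Y} : x ∈ St ρ a ↔ ρ x a = a := Iff.rfl

end out

variable {U : Type*} [AddCommGroup U] [Module (ZMod 2) U] {γ : LinearMap.BilinForm (ZMod 2) U} {Q : U → ZMod 2}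
  {G0 : Subgroup (U ≃ₗ[ZMod 2] U)}

theorem card_XG {n : ℕ} {F : Type*} [Field F] {V : Type*} [AddCommGroup V] [Module F V] {H : HForm F V}
    (Fr : Frame H (Fin n)) {a b : Fin n × Bool} (hab : a.1 ≠ b.1) : Nat.card (XG Fr a b) = Nat.card F := by
  symm
  refine Nat.card_congr (Equiv.ofBijective (fun t : F => (⟨Fr.X a b t, t, rfl⟩ : XG Fr a b)) ⟨?_, ?_⟩)
  · intro s t e
    have e1 : Fr.X a b s = Fr.X a b t := congrArg Subtype.val e
    have e2 := X_apply_neg Fr hab s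
    rw [e1, X_apply_neg Fr hab t] at e2
    have e3 : t • Fr.b a = s • Fr.b a := add_left_cancel e2
    by_contra hne
    have e4 : (t - s) • Fr.b a = 0 := by rw [sub_smul, e3, sub_self]
    exact Cfsg.Agent.Nodes.WittRGD.b_ne_zero a ((smul_eq_zero.1 e4).resolve_left (sub_ne_zero.2 (Ne.symm hne)))
  · rintro ⟨_, t, rfl⟩
    exact ⟨t, rfl⟩

theorem card_ZG {n : ℕ} {F : Type*} [Field F] {V : Type*} [AddCommGroup V] [Module F V] {H : HForm F V}
    (Fr : Frame H (Fin n)) (a : Fin n × Bool) : Nat.card (ZG Fr a) = Nat.card Fr.Adm := by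
  symm
  refine Nat.card_congr (Equiv.ofBijective (fun t : Fr.Adm => (⟨Fr.Z a t, t, rfl⟩ : ZG Fr a)) ⟨?_, ?_⟩)
  · intro s t e
    have e1 : Fr.Z a s = Fr.Z a t := congrArg Subtype.val e
    have e2 := Z_apply_neg Fr a s
    rw [e1, Z_apply_neg Fr a t, add_assoc, add_assoc] at e2
    have e3 := add_left_cancel e2
    have hη := Fr.η_ne a
    -- pair with `b (neg a)`
    have key : ∀ u : Fr.Adm, H.h (Fr.η a • u.w + (u.c * Fr.η a) • Fr.b a) (Fr.b (neg a)) =
        u.c * Fr.η a * Fr.η (neg a) := by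
      intro u
      rw [H.add_left, H.smul_left, H.smul_left, Fr.h0' _ (Fr.ok_mem u.ok), mul_zero, zero_add, Fr.hb_self_neg]
    have e4 := key t
    rw [e3, key s] at e4
    have hc : s.c = t.c := by
      have h1 : Fr.η a * Fr.η (neg a) ≠ 0 := mul_ne_zero hη (Fr.η_ne _)
      rw [mul_assoc, mul_assoc] at e4
      exact mul_right_cancel₀ h1 e4
    rw [hc] at e3
    have e5 : Fr.η a • t.w = Fr.η a • s.w := add_right_cancel e3
    have hw : t.w = s.w := by
      have h1 := congrArg (fun v => (Fr.η a)⁻¹ • v) e5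
      simpa [smul_smul, inv_mul_cancel₀ hη] using h1
    exact Frame.Adm.ext hw.symm hc
  · rintro ⟨_, t, rfl⟩
    exact ⟨t, rfl⟩

/-! ### Facts on the frame -/

section frame

variable (S : Sy γ) (hQ : IsQ γ Q) {k : ℕ} (W : WFrame (PF S hQ) k)

theorem b_mem_Tor {g : U ≃ₗ[ZMod 2] U} (hg : g ∈ Cfsg.Agent.Nodes.WittRGD.Tor (toFrame W) G0) (x : Fin k × Bool) :
    g ((toFrame W).b x) = (toFrame W).b x := by
  obtain ⟨l, hl, e⟩ := hg.2 x
  rw [z2_ne hl, one_smul] at e
  exact e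

theorem mono_apply {g : U ≃ₗ[ZMod 2] U} {π : Fin k × Bool → Fin k × Bool} (hg : Mono (toFrame W) g π)
    (x : Fin k × Bool) : g ((toFrame W).b x) = (toFrame W).b (π x) := by
  obtain ⟨l, hl, e⟩ := hg x
  rw [z2_ne hl, one_smul] at e
  exact e

theorem sc_one (y : Fin k × Bool) : (toFrame W).sc y 1 = 1 := by
  have h1 : (toFrame W).η y = 1 := by
    unfold Frame.η
    split_ifs <;> rfl
  unfold Frame.sc
  rw [h1]
  show -((1 : ZMod 2)⁻¹ * 1 * 1) = 1
  rw [inv_one, mul_one, mul_one]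
  exact neg_z 1

theorem b_ne_zero (x : Fin k × Bool) : (toFrame W).b x ≠ 0 := Cfsg.Agent.Nodes.WittRGD.b_ne_zero x

/-- an element fixed by `X x y 1` -/
theorem perp_of_X {x y : Fin k × Bool} (hxy : x.1 ≠ y.1) {v : U} (h : (toFrame W).X x y 1 v = v) :
    γ v ((toFrame W).b x) = 0 ∧ γ v ((toFrame W).b y) = 0 := by
  rw [Frame.X_eq _ hxy, sie_eq, sc_one, one_smul] at h
  unfold rr at h
  rw [zero_mul, zero_smul, add_zero, add_assoc] at h
  have h1 : γ ((toFrame W).b x) v • (toFrame W).b y + γ ((toFrame W).b y) v • (toFrame W).b x = 0 :=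
    add_eq_left.1 h
  have hne : (toFrame W).b x ≠ (toFrame W).b y := by
    intro e
    exact Cfsg.Agent.Nodes.WittRGD.not_prop (Fr := toFrame W) (x := x) (y := y) (fun h => hxy (congrArg Prod.fst h))
      one_ne_zero (by rw [one_smul]; exact e)
  rw [S.comm v, S.comm v]
  rcases z2 (γ ((toFrame W).b x) v) with h2 | h2 <;> rcases z2 (γ ((toFrame W).b y) v) with h3 | h3
  · exact ⟨h2, h3⟩
  · rw [h2, h3, zero_smul, one_smul, zero_add] at h1
    exact absurd h1 (b_ne_zero S hQ W x)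
  · rw [h2, h3, zero_smul, one_smul, add_zero] at h1
    exact absurd h1 (b_ne_zero S hQ W y)
  · rw [h2, h3, one_smul, one_smul] at h1
    exact absurd (add_eq_zero.1 h1).symm hne

/-- an element orthogonal to `b (o, true)` and fixed by `Z (o, true) p` -/
theorem perp_of_Z {o : Fin k} {v : U} (h0 : γ v (W.e o) = 0) {p : (toFrame W).Adm}
    (h : (toFrame W).Z (o, true) p v = v) : γ v p.w = 0 := by
  have h1 : (HF S).sie ((toFrame W).b (o, true)) p.w p.c ((toFrame W).hb_self _)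
      ((toFrame W).h0 _ _ ((toFrame W).ok_mem p.ok)) v = v := h
  rw [sie_eq] at h1
  unfold rr at h1
  have h2 : γ ((toFrame W).b (o, true)) v = 0 := by rw [S.comm]; exact h0
  rw [h2, mul_zero, zero_smul, add_zero, zero_smul, add_zero] at h1
  have h3 : γ p.w v • (toFrame W).b (o, true) = 0 := add_eq_left.1 h1
  rw [S.comm]
  exact (smul_eq_zero.1 h3).resolve_right (b_ne_zero S hQ W _)

/-- `v` orthogonal to `b x` for `x ≠ (o, false)` -/
theorem sub_mem_V0 {o : Fin k} {v : U} (h : ∀ x, x ≠ (o, false) → γ v ((toFrame W).b x) = 0) :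
    v + γ v (W.f o) • W.e o ∈ W.V0 := by
  have hee : ∀ i, γ (W.e o) (W.e i) = 0 := fun i => W.ee o i
  have hef : ∀ i, γ (W.e o) (W.f i) = if o = i then 1 else 0 := fun i => W.ef o i
  refine mem_V0_of_orth W (fun i => ?_) (fun i => ?_)
  · show γ (v + γ v (W.f o) • W.e o) (W.e i) = 0
    rw [map_add, map_smul, LinearMap.add_apply, LinearMap.smul_apply, hee, smul_zero, add_zero]
    exact h (i, true) (by simp)
  · show γ (v + γ v (W.f o) • W.e o) (W.f i) = 0
    rw [map_add, map_smul, LinearMap.add_apply, LinearMap.smul_apply, hef]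
    by_cases hi : o = i
    · subst hi
      rw [if_pos rfl, smul_eq_mul, mul_one]
      exact z2_add _
    · rw [if_neg hi, smul_zero, add_zero]
      exact h (i, false) (by simp [Ne.symm hi])

/-- all Siegel maps generate `G0` -/
theorem top_of_contains (h : OG γ Q G0) {L : Subgroup (U ≃ₗ[ZMod 2] U)} (hC : W.Contains L) : G0 ≤ L := by
  refine h.gen.trans ((Subgroup.closure_le _).2 ?_)
  rintro g ⟨u, w, hu, hw, hg⟩
  have huu : (HF S).h u u = 0 := S.alt u
  have hw' : (HF S).h u w = 0 := hw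
  have := WFrame.Contains.all W hC (u := u) (w := w) (c := Q w) hu.symm huu hw' rfl
  have e : (HF S).sie u w (Q w) huu hw' = g := by
    ext v
    rw [sie_eq, hg]
  rwa [e] at this

end frame

/-! ### Plus type -/

section D

open Cfsg.Agent.Nodes.TypeD
open Cfsg.Agent.Nodes.TypeC (wt wt_apply ng wt_ng)

variable (S : Sy γ) (hQ : IsQ γ Q) {n : ℕ} (W : WFrame (PF S hQ) (n + 2))

theorem ee_zero_D (hn : 1 ≤ n) (x : Fin (n + 2) → ℤ) : ee x 0 = x 0 := by
  have h1 : ∀ j : Fin (n + 2), (x j • bt j) 0 = if j = 0 then x 0 else 0 := by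
    intro j
    rw [Pi.smul_apply, smul_eq_mul, bt_apply]
    have h2 : ((0 : Fin (n + 2)) : ℕ) = 0 := rfl
    simp only [h2]
    by_cases hj : j = 0
    · subst hj
      simp
    · have h3 : (j : ℕ) ≠ 0 := fun h => hj (Fin.ext h)
      rw [if_neg hj, if_neg (Ne.symm h3), if_neg (Ne.symm h3), if_neg (show ¬ 0 = (j : ℕ) + 1 by omega),
        if_neg (show ¬ 0 = n by omega)]
      simp
  unfold ee
  rw [Finset.sum_apply, Finset.sum_congr rfl fun j _ => h1 j, Finset.sum_ite_eq' Finset.univ (0 : Fin (n + 2)),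
    if_pos (Finset.mem_univ _)]

variable {W}

theorem fix_rg_D {W' : Type*} [Group W'] {cs : CoxeterSystem (M n) W'} (hn : 1 ≤ n) {x : Fin (n + 2) → ℤ}
    (hx : IsRoot cs (isCartan n) x) (h0 : 0 ≤ x) {g : U ≃ₗ[ZMod 2] U}
    (hg : g ∈ Cfsg.Agent.Nodes.WittRGDD.rg (toFrame W) x) : g (W.e 0) = W.e 0 := by
  obtain ⟨a, b, hab, e⟩ := exists_of_isRoot cs hx
  rw [Cfsg.Agent.Nodes.WittRGDD.rg_eq (toFrame W) hab e] at hg
  obtain ⟨t, rfl⟩ := hg
  have h1 := congrFun e 0
  rw [ee_zero_D hn, Pi.add_apply, wt_apply, wt_apply] at h1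
  have h2 : 0 ≤ x 0 := h0 0
  have hne : ∀ c d : Fin (n + 2) × Bool, c.1 ≠ d.1 →
      x 0 = (if 0 = c.1 then (if c.2 then 1 else -1) else 0) + (if 0 = d.1 then (if d.2 then 1 else -1) else 0) →
      ((0, true) : Fin (n + 2) × Bool) ≠ neg c := by
    intro c d hcd h3 h4
    have h5 : c.1 = 0 := (congrArg Prod.fst h4).symm
    have h6 : c.2 = false := by
      have := congrArg Prod.snd h4
      simpa [neg] using this.symm
    rw [h5, if_pos rfl, h6] at h3
    rw [h5] at hcd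
    rw [if_neg hcd] at h3
    simp at h3
    omega
  exact X_apply_of_ne (toFrame W) hab (hne a b hab h1) (hne b a (Ne.symm hab) (by rw [h1, add_comm])) t

theorem out_D [Finite U] (h : OG γ Q G0) (hn : 1 ≤ n) (hV : W.V0 = ⊥) :
    ∃ (T B : Subgroup G0) (P : Fin (n + 2) → Subgroup G0),
      WOut G0.subtype (W.e 0) (0 : Fin (n + 2)) (fun i j => M n i j) (fun _ => 2) (2 ^ ((n + 2) * (n + 1))) T B P := by
  classical
  set Fr := toFrame W with hFr
  have hA := h.amb S hQ W hV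
  let cs := (M n).toCoxeterSystem
  have hfinW : Finite (M n).Group := finite_W cs
  have hfinG : Finite (U ≃ₗ[ZMod 2] U) :=
    Finite.of_injective (fun g : U ≃ₗ[ZMod 2] U => (g : U → U)) DFunLike.coe_injective
  have h0 : ∀ p : Fr.Adm, p = 1 := by
    intro p
    have hw : p.w = 0 := by
      have h1 : p.w ∈ W.V0 := p.ok.1
      rwa [hV, Submodule.mem_bot] at h1
    have hc : p.c = Q p.w := p.ok.2
    apply Frame.Adm.ext
    · exact hw
    · rw [hc, hw, hQ.zero]; rfl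
  have hle : ∀ x, Cfsg.Agent.Nodes.WittRGDD.rg Fr x ≤ G0 := by
    intro x
    refine iSup_le fun q => ?_
    rintro _ ⟨t, rfl⟩
    exact hA.X_mem _ _ _
  have R := rgd_restrict (rgdD (p := 2) hA h0 cs) G0 (fun x _ => hle x)
    (fun i => Cfsg.Agent.Nodes.WittRGDD.nn_mem hA i)
  set T' := (Cfsg.Agent.Nodes.WittRGD.Tor Fr G0).subgroupOf G0 with hT'
  set X' : (Fin (n + 2) → ℤ) → Subgroup G0 := fun x => (Cfsg.Agent.Nodes.WittRGDD.rg Fr x).subgroupOf G0 with hX'
  -- generation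
  have hG1 : G1 cs (isCartan n) X' = ⊤ := by
    set L := (G1 cs (isCartan n) X').map G0.subtype with hL
    have key : ∀ a b : Fin (n + 2) × Bool, a.1 ≠ b.1 → ∀ t, Fr.X a b t ∈ L := by
      intro a b hab t
      obtain ⟨x, hx, ex⟩ := rt_of_ok (cs := cs) (a := a) (b := b) hab
      refine ⟨⟨Fr.X a b t, hA.X_mem _ _ _⟩, ?_, rfl⟩
      refine X_le_G1 hx ?_
      show Fr.X a b t ∈ Cfsg.Agent.Nodes.WittRGDD.rg Fr x
      rw [Cfsg.Agent.Nodes.WittRGDD.rg_eq Fr hab ex]
      exact ⟨t, rfl⟩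
    have hne : pd n ≠ (⟨n + 1, by omega⟩ : Fin (n + 2)) := by simp [pd, Fin.ext_iff]
    have hC : W.Contains L := contains_D W (pd n) ⟨n + 1, by omega⟩ hne
      (fun i j hij t => by
        have h1 : i ≠ j := by rintro rfl; omega
        exact ⟨key _ _ h1 t, key _ _ h1.symm t⟩)
      (fun t => ⟨key _ _ hne t, key _ _ hne t⟩) h0
    have htop := top_of_contains S hQ W h hC
    rw [eq_top_iff]
    intro k _
    obtain ⟨g', hg', he⟩ := htop k.2
    have : g' = k := Subtype.ext he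
    exact this ▸ hg'
  have hG : GG cs (isCartan n) T' X' = ⊤ := by
    rw [eq_top_iff, ← hG1]
    exact le_sup_right
  -- orders
  have hq : ∀ j, Nat.card (X' (sr j)) = 2 := by
    intro j
    have h1 : Nat.card (X' (sr j)) = Nat.card (Cfsg.Agent.Nodes.WittRGDD.rg Fr (sr j)) :=
      Nat.card_congr (Subgroup.subgroupOfEquivOfLe (hle (sr j))).toEquiv
    rw [h1, Cfsg.Agent.Nodes.WittRGDD.rg_sr, card_XG Fr (ok_nx j), Nat.card_zmod]
  -- the stabiliser of `e₀`
  have hTS : T' ≤ St G0.subtype (W.e 0) := fun t ht => b_mem_Tor S hQ W ht (0, true)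
  have hXS : ∀ x, IsRoot cs (isCartan n) x → 0 ≤ x → X' x ≤ St G0.subtype (W.e 0) :=
    fun x hx hx0 g hg => fix_rg_D S hQ hn hx hx0 hg
  refine ⟨_, _, _, xsys_of_rgd R hG hq, xtr R, ?_, ?_, ?_, ?_⟩
  · intro j hj x hx
    have hnS : (⟨Cfsg.Agent.Nodes.WittRGDD.nn Fr j, Cfsg.Agent.Nodes.WittRGDD.nn_mem hA j⟩ : G0) ∈
        St G0.subtype (W.e 0) := by
      rw [mem_St]
      show Cfsg.Agent.Nodes.WittRGDD.nn Fr j (Fr.b (0, true)) = Fr.b (0, true)
      rw [mono_apply S hQ W (Cfsg.Agent.Nodes.WittRGDD.mono_nn j) (0, true)]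
      congr 1
      by_cases hj1 : (j : ℕ) + 1 < n + 2
      · exact sg_of_ne hj1 (Ne.symm hj) (by simp)
      · exact sg_last_of_ne hj1 (by show 0 < n; omega)
    exact PJ_le R hTS hXS hnS hx
  · refine ⟨_, (n_mem_P R 0).1, ?_⟩
    show Cfsg.Agent.Nodes.WittRGDD.nn Fr 0 (Fr.b (0, true)) ≠ Fr.b (0, true)
    rw [mono_apply S hQ W (Cfsg.Agent.Nodes.WittRGDD.mono_nn 0) (0, true)]
    intro e
    exact Cfsg.Agent.Nodes.WittRGD.not_prop (Fr := Fr) (Cfsg.Agent.Nodes.WittRGDD.sg_ne (0 : Fin (n + 2)))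
      one_ne_zero (by rw [one_smul]; exact e.symm)
  · intro v hv
    have hfix : ∀ y : Fin (n + 2) × Bool, y.1 ≠ 0 → γ v (Fr.b (0, true)) = 0 ∧ γ v (Fr.b y) = 0 := by
      intro y hy
      obtain ⟨x, hx, ex⟩ := rt_of_ok (cs := cs) (a := (0, true)) (b := y) (Ne.symm hy)
      have hx0 : 0 ≤ x := by
        rcases hx.pos_or_neg with h1 | h1
        · exact h1
        · exfalso
          have h2 : x 0 ≤ 0 := h1 0
          have h3 := congrFun ex 0
          rw [ee_zero_D hn, Pi.add_apply, wt_apply, wt_apply, if_neg (Ne.symm hy)] at h3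
          simp at h3
          omega
      refine perp_of_X S hQ W (x := (0, true)) (y := y) (Ne.symm hy) ?_
      have h1 : (⟨Fr.X (0, true) y 1, hA.X_mem _ _ _⟩ : G0) ∈ RGD.Sup X' (RGD.Pos cs (isCartan n)) := by
        refine RGD.le_Sup (X := X') (S := RGD.Pos cs (isCartan n)) (z := x) ⟨hx, hx0⟩ ?_
        show Fr.X (0, true) y 1 ∈ Cfsg.Agent.Nodes.WittRGDD.rg Fr x
        rw [Cfsg.Agent.Nodes.WittRGDD.rg_eq Fr (a := (0, true)) (b := y) (Ne.symm hy) ex]
        exact ⟨1, rfl⟩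
      exact hv _ h1
    have h1 : v + γ v (W.f 0) • W.e 0 ∈ W.V0 := by
      refine sub_mem_V0 S hQ W fun x hx => ?_
      by_cases hx0 : x.1 = 0
      · have hx1 : x = (0, true) := by
          rcases x with ⟨i, s⟩
          simp only at hx0
          subst hx0
          cases s
          · exact absurd rfl hx
          · rfl
        rw [hx1]
        exact (hfix (1, true) (by simp)).1
      · exact (hfix x hx0).2
    rw [hV, Submodule.mem_bot, add_eq_zero] at h1
    rcases z2 (γ v (W.f 0)) with h2 | h2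
    · left; rw [h1, h2, zero_smul]
    · right; rw [h2, one_smul] at h1; exact h1
  · obtain ⟨F, hF, he⟩ := cs.exists_isReduced (w0 cs)
    rw [XCard.card_U R hF he.symm hq]
    have hM : HasQ (M n) (fun _ => 2) (2 ^ ((n + 2) * (n + 1))) := by
      refine hasQ_D (Equiv.refl _) ?_ fun _ => rfl
      intro i j hij
      rw [CoxeterMatrix.reindex_apply]
      show M n i j = _
      rw [M_apply, if_neg hij]
      unfold Cfsg.Agent.Nodes.TypeD.Adj
      have h1 := i.2
      have h2 := j.2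
      congr 1
      apply propext
      constructor
      · rintro ((⟨h3, h4⟩ | ⟨h3, h4⟩) | (⟨h3, h4⟩ | ⟨h3, h4⟩)) <;> omega
      · rintro (⟨h3, h4⟩ | ⟨h3, h4⟩ | ⟨h3, h4⟩ | ⟨h3, h4⟩) <;> omega
    exact hM.2 F hF he.symm

end D

/-! ### Minus type -/

section C

open Cfsg.Agent.Nodes.TypeC
open Cfsg.Agent.Nodes.WittRGD (Tor nn mono_nn rg_sr rg_neg_sr not_prop)

variable (S : Sy γ) (hQ : IsQ γ Q) {m : ℕ} (W : WFrame (PF S hQ) (m + 1))

theorem ee_zero_C (hm : 1 ≤ m) (x : Fin (m + 1) → ℤ) : ee x 0 = x 0 := by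
  have h1 : ∀ j : Fin (m + 1), (x j • bt j) 0 = if j = 0 then x 0 else 0 := by
    intro j
    rw [Pi.smul_apply, smul_eq_mul, bt_apply]
    have h2 : ((0 : Fin (m + 1)) : ℕ) = 0 := rfl
    simp only [h2]
    by_cases hj : j = 0
    · subst hj
      simp
      omega
    · have h3 : (j : ℕ) ≠ 0 := fun h => hj (Fin.ext h)
      rw [if_neg hj, if_neg (Ne.symm h3), if_neg (Ne.symm h3), if_neg (show ¬ 0 = (j : ℕ) + 1 by omega)]
      simp
  unfold ee
  rw [Finset.sum_apply, Finset.sum_congr rfl fun j _ => h1 j, Finset.sum_ite_eq' Finset.univ (0 : Fin (m + 1)),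
    if_pos (Finset.mem_univ _)]

variable {W}

theorem fix_rg_C {W' : Type*} [Group W'] {cs : CoxeterSystem (CoxeterMatrix.B (m + 1)) W'} (hm : 1 ≤ m)
    {x : Fin (m + 1) → ℤ} (hx : IsRoot cs (isCartan (m + 1)) x) (h0 : 0 ≤ x) {g : U ≃ₗ[ZMod 2] U}
    (hg : g ∈ Cfsg.Agent.Nodes.WittRoot.rg (toFrame W) x) : g (W.e 0) = W.e 0 := by
  obtain ⟨a, b, hab, e⟩ := exists_of_isRoot cs hx
  rw [Cfsg.Agent.Nodes.WittRoot.rg_eq (toFrame W) hab e] at hg
  have h1 := congrFun e 0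
  rw [ee_zero_C hm, Pi.add_apply, wt_apply, wt_apply] at h1
  have h2 : 0 ≤ x 0 := h0 0
  have hne : ∀ c d : Fin (m + 1) × Bool, (c.1 ≠ d.1 ∨ c = d) →
      x 0 = (if 0 = c.1 then (if c.2 then 1 else -1) else 0) + (if 0 = d.1 then (if d.2 then 1 else -1) else 0) →
      ((0, true) : Fin (m + 1) × Bool) ≠ neg c := by
    intro c d hcd h3 h4
    have h5 : c.1 = 0 := (congrArg Prod.fst h4).symm
    have h6 : c.2 = false := by
      have := congrArg Prod.snd h4
      simpa [neg] using this.symm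
    rcases hcd with hcd | hcd
    · rw [h5, if_pos rfl, h6] at h3
      rw [h5] at hcd
      rw [if_neg hcd] at h3
      simp at h3
      omega
    · rw [← hcd, h5, if_pos rfl, h6] at h3
      simp at h3
      omega
  rcases hab with hab | hab
  · rw [PG_ne _ hab] at hg
    obtain ⟨t, rfl⟩ := hg
    exact X_apply_of_ne (toFrame W) hab (hne a b (Or.inl hab) h1)
      (hne b a (Or.inl (Ne.symm hab)) (by rw [h1, add_comm])) t
  · subst hab
    rw [PG_self] at hg
    obtain ⟨p, rfl⟩ := hg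
    exact Z_apply_of_ne (toFrame W) (hne a a (Or.inr rfl) h1) p

theorem out_C [Finite U] (h : OG γ Q G0) (hm : 1 ≤ m) {u₁ u₂ : U} (hV : Aniso γ Q W.V0 u₁ u₂)
    (hev : Even (Module.finrank (ZMod 2) U)) :
    ∃ (T B : Subgroup G0) (P : Fin (m + 1) → Subgroup G0),
      WOut G0.subtype (W.e 0) (0 : Fin (m + 1)) (fun i j => CoxeterMatrix.B (m + 1) i j)
        (fun j => if (j : ℕ) = m then 4 else 2) (2 ^ ((m + 1) * m) * 4 ^ (m + 1)) T B P := by
  classical
  set Fr := toFrame W with hFr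
  have hA := h.ambT S hQ W hV hev
  let cs := (CoxeterMatrix.B (m + 1)).toCoxeterSystem
  have hfinW : Finite (CoxeterMatrix.B (m + 1)).Group := finite_W cs
  have hfinG : Finite (U ≃ₗ[ZMod 2] U) :=
    Finite.of_injective (fun g : U ≃ₗ[ZMod 2] U => (g : U → U)) DFunLike.coe_injective
  let p0 : Fr.Adm := ⟨u₁, 1, hV.x_mem, hV.qx.symm⟩
  have hp0 : p0.c ≠ 0 := one_ne_zero
  have hcardA : Nat.card Fr.Adm = 4 := by
    rw [← card_aniso hQ hV]
    refine Nat.card_congr
      { toFun := fun p => ⟨p.w, p.ok.1⟩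
        invFun := fun w => ⟨w, Q w, w.2, rfl⟩
        left_inv := fun p => by
          apply Frame.Adm.ext
          · rfl
          · exact (p.ok.2 : p.c = Q p.w).symm
        right_inv := fun w => rfl }
  have hle : ∀ x, Cfsg.Agent.Nodes.WittRoot.rg Fr x ≤ G0 := fun x => hA.rg_le x
  have R := rgd_restrict (rgdC (p := 2) hA hp0 cs) G0 (fun x _ => hle x) (fun i => Cfsg.Agent.Nodes.WittAll.nn_mem hA p0 i)
  set T' := (Tor Fr G0).subgroupOf G0 with hT'
  set X' : (Fin (m + 1) → ℤ) → Subgroup G0 := fun x => (Cfsg.Agent.Nodes.WittRoot.rg Fr x).subgroupOf G0 with hX'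
  -- generation
  have hG1 : G1 cs (isCartan (m + 1)) X' = ⊤ := by
    set L := (G1 cs (isCartan (m + 1)) X').map G0.subtype with hL
    have key : ∀ a b : Fin (m + 1) × Bool, Ok a b → PG Fr a b ≤ L := by
      intro a b hab g hg
      obtain ⟨x, hx, ex⟩ := rt_of_ok (cs := cs) (a := a) (b := b) hab
      have h1 : g ∈ Cfsg.Agent.Nodes.WittRoot.rg Fr x := by
        rw [Cfsg.Agent.Nodes.WittRoot.rg_eq Fr hab ex]
        exact hg
      exact ⟨⟨g, hle x h1⟩, X_le_G1 hx h1, rfl⟩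
    have hC : W.Contains L := contains_C W (Fin.last m)
      (fun i j hij t => by
        have h1 : i ≠ j := by rintro rfl; omega
        refine ⟨key (i, true) (j, false) (Or.inl h1) ?_, key (j, true) (i, false) (Or.inl h1.symm) ?_⟩
        · rw [PG_ne Fr (a := (i, true)) (b := (j, false)) h1]; exact ⟨t, rfl⟩
        · rw [PG_ne Fr (a := (j, true)) (b := (i, false)) h1.symm]; exact ⟨t, rfl⟩)
      (fun p => by
        refine ⟨key (Fin.last m, true) (Fin.last m, true) (Or.inr rfl) ?_,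
          key (Fin.last m, false) (Fin.last m, false) (Or.inr rfl) ?_⟩
        · rw [PG_self]; exact ⟨p, rfl⟩
        · rw [PG_self]; exact ⟨p, rfl⟩) ⟨p0, hp0⟩
    have htop := top_of_contains S hQ W h hC
    rw [eq_top_iff]
    intro k _
    obtain ⟨g', hg', he⟩ := htop k.2
    have : g' = k := Subtype.ext he
    exact this ▸ hg'
  have hG : GG cs (isCartan (m + 1)) T' X' = ⊤ := by
    rw [eq_top_iff, ← hG1]
    exact le_sup_right
  -- orders
  have hq : ∀ j : Fin (m + 1), Nat.card (X' (sr j)) = if (j : ℕ) = m then 4 else 2 := by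
    intro j
    have h1 : Nat.card (X' (sr j)) = Nat.card (Cfsg.Agent.Nodes.WittRoot.rg Fr (sr j)) :=
      Nat.card_congr (Subgroup.subgroupOfEquivOfLe (hle (sr j))).toEquiv
    rw [h1, rg_sr]
    by_cases hj : (j : ℕ) + 1 < m + 1
    · have hnx : nx j = (⟨j + 1, hj⟩, false) := by unfold nx; rw [dif_pos hj]
      have hne' : ((j, true) : Fin (m + 1) × Bool).1 ≠ (nx j).1 := by rw [hnx]; simp [Fin.ext_iff]
      rw [PG_ne Fr hne', card_XG Fr hne', Nat.card_zmod, if_neg (by omega)]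
    · have hnx : nx j = (j, true) := by unfold nx; rw [dif_neg hj]
      have h2 := j.2
      rw [hnx, PG_self, card_ZG, hcardA, if_pos (by omega)]
  -- the stabiliser of `e₀`
  have hTS : T' ≤ St G0.subtype (W.e 0) := fun t ht => b_mem_Tor S hQ W ht (0, true)
  have hXS : ∀ x, IsRoot cs (isCartan (m + 1)) x → 0 ≤ x → X' x ≤ St G0.subtype (W.e 0) :=
    fun x hx hx0 g hg => fix_rg_C S hQ hm hx hx0 hg
  refine ⟨_, _, _, xsys_of_rgd R hG hq, xtr R, ?_, ?_, ?_, ?_⟩
  · intro j hj x hx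
    have hnS : (⟨nn Fr p0 j, Cfsg.Agent.Nodes.WittAll.nn_mem hA p0 j⟩ : G0) ∈ St G0.subtype (W.e 0) := by
      rw [mem_St]
      show nn Fr p0 j (Fr.b (0, true)) = Fr.b (0, true)
      rw [mono_apply S hQ W (mono_nn hp0 j) (0, true)]
      congr 1
      exact sg_of_ne (Ne.symm hj) (by simp)
    exact PJ_le R hTS hXS hnS hx
  · refine ⟨_, (n_mem_P R 0).1, ?_⟩
    show nn Fr p0 0 (Fr.b (0, true)) ≠ Fr.b (0, true)
    rw [mono_apply S hQ W (mono_nn hp0 0) (0, true)]
    intro e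
    refine not_prop (Fr := Fr) (x := (0, true)) (y := sg 0 (0, true)) ?_ one_ne_zero (by rw [one_smul]; exact e.symm)
    rw [sg_up (show ((0 : Fin (m + 1)) : ℕ) + 1 < m + 1 by simp; omega)]
    simp [Fin.ext_iff]
  · intro v hv
    have hpos : ∀ y : Fin (m + 1) × Bool, Ok (0, true) y → ∀ g ∈ PG Fr (0, true) y, g v = v := by
      intro y hy g hg
      obtain ⟨x, hx, ex⟩ := rt_of_ok (cs := cs) (a := (0, true)) (b := y) hy
      have hx0 : 0 ≤ x := by
        rcases hx.pos_or_neg with h1 | h1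
        · exact h1
        · exfalso
          have h2 : x 0 ≤ 0 := h1 0
          have h3 := congrFun ex 0
          rw [ee_zero_C hm, Pi.add_apply, wt_apply, wt_apply] at h3
          rcases hy with hy | hy
          · rw [if_neg hy] at h3
            simp at h3
            omega
          · rw [← hy] at h3
            simp at h3
            omega
      have h0 : g ∈ Cfsg.Agent.Nodes.WittRoot.rg Fr x := by
        rw [Cfsg.Agent.Nodes.WittRoot.rg_eq Fr hy ex]
        exact hg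
      have h1 : (⟨g, hle x h0⟩ : G0) ∈ RGD.Sup X' (RGD.Pos cs (isCartan (m + 1))) :=
        RGD.le_Sup (X := X') (S := RGD.Pos cs (isCartan (m + 1))) (z := x) ⟨hx, hx0⟩ h0
      exact hv _ h1
    have hfix : ∀ y : Fin (m + 1) × Bool, y.1 ≠ 0 → γ v (Fr.b (0, true)) = 0 ∧ γ v (Fr.b y) = 0 := by
      intro y hy
      have hy' : ((0, true) : Fin (m + 1) × Bool).1 ≠ y.1 := Ne.symm hy
      refine perp_of_X S hQ W (x := (0, true)) (y := y) hy' ?_
      refine hpos y (Or.inl hy') _ ?_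
      rw [PG_ne Fr hy']
      exact ⟨1, rfl⟩
    have h00 : γ v (W.e 0) = 0 := (hfix (⟨1, by omega⟩, true) (by simp [Fin.ext_iff])).1
    have hz : ∀ w ∈ W.V0, γ v w = 0 := by
      intro w hw
      refine perp_of_Z S hQ W (o := 0) h00 (p := ⟨w, Q w, hw, rfl⟩) ?_
      refine hpos (0, true) (Or.inr rfl) _ ?_
      rw [PG_self]
      exact ⟨_, rfl⟩
    have h1 : v + γ v (W.f 0) • W.e 0 ∈ W.V0 := by
      refine sub_mem_V0 S hQ W fun x hx => ?_
      by_cases hx0 : x.1 = 0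
      · have hx1 : x = (0, true) := by
          rcases x with ⟨i, s⟩
          simp only at hx0
          subst hx0
          cases s
          · exact absurd rfl hx
          · rfl
        rw [hx1]
        exact h00
      · exact (hfix x hx0).2
    have h2 : ∀ w ∈ W.V0, γ (v + γ v (W.f 0) • W.e 0) w = 0 := by
      intro w hw
      rw [map_add, map_smul, LinearMap.add_apply, LinearMap.smul_apply, hz w hw, S.comm (W.e 0)]
      have h3 : γ w (W.e 0) = 0 := W.V0e w hw 0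
      rw [h3, smul_zero, add_zero]
    have h3 : v + γ v (W.f 0) • W.e 0 = 0 := by
      rcases hV.all _ h1 with h4 | h4 | h4 | h4
      · exact h4
      · have := h2 u₂ hV.y_mem
        rw [h4, hV.xy] at this
        exact absurd this (by decide)
      · have := h2 u₁ hV.x_mem
        rw [h4, S.comm, hV.xy] at this
        exact absurd this (by decide)
      · have := h2 u₁ hV.x_mem
        rw [h4, map_add, LinearMap.add_apply, S.alt, S.comm, hV.xy] at this
        exact absurd this (by decide)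
    rw [add_eq_zero] at h3
    rcases z2 (γ v (W.f 0)) with h4 | h4
    · left; rw [h3, h4, zero_smul]
    · right; rw [h4, one_smul] at h3; exact h3
  · obtain ⟨F, hF, he⟩ := cs.exists_isReduced (w0 cs)
    rw [XCard.card_U R hF he.symm hq]
    have hM : HasQ (CoxeterMatrix.B (m + 1)) (fun j : Fin (m + 1) => if (j : ℕ) = m then 4 else 2)
        (2 ^ ((m + 1) * m) * 4 ^ (m + 1)) := by
      refine hasQ_B (Equiv.refl _) ?_ fun _ => rfl
      intro i j hij
      rw [CoxeterMatrix.reindex_apply]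
      show (if i = j then 1 else (if (i : ℕ) = m + 1 - 1 ∧ (j : ℕ) = m + 1 - 2 ∨
        (j : ℕ) = m + 1 - 1 ∧ (i : ℕ) = m + 1 - 2 then 4
        else (if (j : ℕ) + 1 = i ∨ (i : ℕ) + 1 = j then 3 else 2))) = _
      rw [if_neg hij]
      have h1 := i.2
      have h2 := j.2
      have h5 : (i : ℕ) ≠ j := fun h => hij (Fin.ext h)
      split_ifs <;> omega
    exact hM.2 F hF he.symm

end C

end Cfsg.Agent.Omega.EH3.RowS.XWitt

end

section


/-!
# RowS, BACK (helper73), part 8: the system of `⟨d, t⟩ × L`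

`XOut ρ a N M₂ q₂ N₂ T B P` : the parabolic system of `N = ⟨d,t⟩ ⊔ L`, diagram `Unit ⊕ Fin (r+1)`;
`main_sys` : `L` of type `D_{n+2}` (`w = 2 (n+2)`) or `²D_{m+2}` (diagram `B_{m+1}`, `w = 2 (m+2)`).
-/

set_option autoImplicit false

namespace Cfsg.Agent.Omega.EH3.RowS.SysOf

open Subgroup Cfsg.Agent.Omega.ThmID Cfsg.Agent.Omega.EH3.RowS Cfsg.Agent.Omega.EH3.RowS.XProd
  Cfsg.Agent.Omega.EH3.RowS.XS3 Cfsg.Agent.Omega.EH3.RowS.XWitt Cfsg.Agent.Omega.EH3.RowS.WF
open Cfsg.Agent.Omega.EH3.RowS.Tri (gam ρ₀)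

/-! ### Transport of `WOut` -/

theorem wout_comap {U Y Y' : Type*} [AddCommGroup U] [Module (ZMod 2) U] [Group Y] [Group Y']
    {ρ : Y →* (U ≃ₗ[ZMod 2] U)} {a : U} {J : Type*} {o : J} {M : J → J → ℕ} {q : J → ℕ} {N : ℕ}
    {T B : Subgroup Y} {P : J → Subgroup Y} (f : Y' ≃* Y) (h : WOut ρ a o M q N T B P) :
    WOut (ρ.comp f.toMonoidHom) a o M q N (T.comap f.toMonoidHom) (B.comap f.toMonoidHom)
      (fun j => (P j).comap f.toMonoidHom) where
  sys := comap f h.sys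
  tr :=
    { ex := fun j => by
        obtain ⟨x, hx, h1⟩ := h.tr.ex j
        refine ⟨f.symm x, ?_, ?_⟩
        · show f (f.symm x) ∈ P j
          rw [f.apply_symm_apply]; exact hx
        · intro h2
          have h3 : f (f.symm x) ∈ B := h2
          rw [f.apply_symm_apply] at h3
          exact h1 h3
      tr := fun j x hx hxB y hy hyB => by
        obtain ⟨b, hb, h1⟩ := h.tr.tr j (f x) hx hxB (f y) hy hyB
        refine ⟨f.symm b, ?_, ?_⟩
        · show f (f.symm b) ∈ B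
          rw [f.apply_symm_apply]; exact hb
        · show f ((f.symm b * x)⁻¹ * y) ∈ B
          rw [map_mul, map_inv, map_mul, f.apply_symm_apply]; exact h1 }
  fix j hj x hx := h.fix j hj (f x) hx
  mov := by
    obtain ⟨x, hx, h1⟩ := h.mov
    refine ⟨f.symm x, ?_, ?_⟩
    · show f (f.symm x) ∈ P o
      rw [f.apply_symm_apply]; exact hx
    · show ρ (f (f.symm x)) a ≠ a
      rw [f.apply_symm_apply]; exact h1
  cen v hv := h.cen v fun x hx => by
    have h1 := hv (f.symm x) (by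
      show f (f.symm x) ∈ T
      rw [f.apply_symm_apply]; exact hx)
    have h2 : ρ (f (f.symm x)) v = v := h1
    rwa [f.apply_symm_apply] at h2
  card := by
    rw [← h.card]
    refine Nat.card_congr
      { toFun := fun x => ⟨f x, x.2⟩
        invFun := fun x => ⟨f.symm x, by
          show f (f.symm x) ∈ T
          rw [f.apply_symm_apply]; exact x.2⟩
        left_inv := fun x => Subtype.ext (f.symm_apply_apply x)
        right_inv := fun x => Subtype.ext (f.apply_symm_apply x) }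

/-! ### The direct product -/

section sup

variable {H : Type*} [Group H] (E L : Subgroup H)

/-- `E × L → E ⊔ L` -/
def toSup (hc : ∀ s ∈ E, ∀ l ∈ L, s * l = l * s) : E × L →* ↥(E ⊔ L) where
  toFun x := ⟨x.1 * x.2, mul_mem (mem_sup_left x.1.2) (mem_sup_right x.2.2)⟩
  map_one' := Subtype.ext (by simp)
  map_mul' x y := Subtype.ext (by
    show (x.1 * y.1 : H) * (x.2 * y.2 : H) = x.1 * x.2 * (y.1 * y.2)
    have h := hc y.1 y.1.2 x.2 x.2.2
    calc (x.1 * y.1 : H) * (x.2 * y.2 : H) = x.1 * (y.1 * x.2) * y.2 := by group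
      _ = x.1 * (x.2 * y.1) * y.2 := by rw [h]
      _ = _ := by group)

variable {E L}

theorem toSup_bij (hc : ∀ s ∈ E, ∀ l ∈ L, s * l = l * s) (hd : ∀ g ∈ E, g ∈ L → g = 1) (hL : L.Normal) :
    Function.Bijective (toSup E L hc) := by
  constructor
  · rw [injective_iff_map_eq_one]
    rintro ⟨⟨s, hs⟩, ⟨l, hl⟩⟩ h
    have h1 : s * l = 1 := congrArg Subtype.val h
    have h2 : s = l⁻¹ := eq_inv_of_mul_eq_one_left h1
    have h3 : s = 1 := hd s hs (by rw [h2]; exact inv_mem hl)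
    subst h3
    rw [one_mul] at h1
    subst h1
    rfl
  · rintro ⟨x, hx⟩
    obtain ⟨s, hs, l, hl, rfl⟩ := mem_sup_of_normal_right.1 hx
    exact ⟨(⟨s, hs⟩, ⟨l, hl⟩), rfl⟩

/-- `E ⊔ L ≃ E × L` -/
noncomputable def supE (hc : ∀ s ∈ E, ∀ l ∈ L, s * l = l * s) (hd : ∀ g ∈ E, g ∈ L → g = 1) (hL : L.Normal) :
    ↥(E ⊔ L) ≃* E × L :=
  (MulEquiv.ofBijective (toSup E L hc) (toSup_bij hc hd hL)).symm

theorem supE_spec (hc : ∀ s ∈ E, ∀ l ∈ L, s * l = l * s) (hd : ∀ g ∈ E, g ∈ L → g = 1) (hL : L.Normal)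
    (x : ↥(E ⊔ L)) : (x : H) = (supE hc hd hL x).1 * (supE hc hd hL x).2 := by
  have h := (MulEquiv.ofBijective (toSup E L hc) (toSup_bij hc hd hL)).apply_symm_apply x
  exact (congrArg Subtype.val h).symm

theorem supE_mk (hc : ∀ s ∈ E, ∀ l ∈ L, s * l = l * s) (hd : ∀ g ∈ E, g ∈ L → g = 1) (hL : L.Normal)
    (x : E × L) : supE hc hd hL (toSup E L hc x) = x :=
  (MulEquiv.ofBijective (toSup E L hc) (toSup_bij hc hd hL)).symm_apply_apply x

end sup

/-! ### The output -/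

/-- the parabolic system of `N = ⟨d,t⟩ × L` -/
structure XOut {H V : Type*} [Group H] [AddCommGroup V] [Module (ZMod 2) V] (ρ : H →* (V ≃ₗ[ZMod 2] V)) (a : V)
    (N : Subgroup H) {r : ℕ} (M₂ : Fin (r + 1) → Fin (r + 1) → ℕ) (q₂ : Fin (r + 1) → ℕ) (N₂ : ℕ)
    (T B : Subgroup N) (P : Unit ⊕ Fin (r + 1) → Subgroup N) : Prop where
  sys : XSys T B P (MM (fun _ _ => 1) M₂) (Sum.elim (fun _ => 2) q₂)
  fixT : ∀ v, (∀ g ∈ T, ρ (g : H) v = v) → v = 0 ∨ v = a
  mov0 : ∃ x ∈ P (Sum.inl ()), ρ (x : H) a ≠ a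
  mov1 : ∃ x ∈ P (Sum.inr 0), ρ (x : H) a ≠ a
  fix : ∀ j, j ≠ 0 → ∀ x ∈ P (Sum.inr j), ρ (x : H) a = a
  card : Nat.card T = 2 * N₂

variable {H V : Type*} [Group H] [AddCommGroup V] [Module (ZMod 2) V]
  {ρ : H →* (V ≃ₗ[ZMod 2] V)} {b : LinearMap.BilinForm (ZMod 2) V} {q : V → ZMod 2}
  {a : V} {D : Submodule (ZMod 2) V} {X : Subgroup H} {w : ℕ} {L : Subgroup H} {d t : H}

variable (C : Cfg ρ b q a D X w) (S : Tri ρ X L d t)

section

include C S

/-- the group generated by the Siegel maps -/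
theorem og (hN : L.Normal) (hq : IsQuasisimple L) (hZ : Odd (Nat.card (center L))) {Q : UU ρ t → ZMod 2}
    (hQ : QD (ρ₀ ρ d t) (gam ρ b d t) (⟨a, S.a_mem C⟩ : UU ρ t) (X.subgroupOf (HH d t)) (L.subgroupOf (HH d t)) Q) :
    OG (gam ρ b d t) Q ((L.subgroupOf (HH d t)).map (ρ₀ ρ d t)) where
  iso := by
    rintro _ ⟨m, _, rfl⟩ u v
    exact (S.ab C hN hq hZ).iso m u v
  isq := by
    rintro _ ⟨m, _, rfl⟩ v
    exact hQ.inv m v
  mem := by
    intro u w hu hQu huw
    obtain ⟨l, hl, h⟩ := hQ.exists_siegel (S.ab C hN hq hZ) hu hQu huw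
    exact ⟨_, ⟨l, hl, rfl⟩, h⟩
  gen := by
    rw [hQ.map_L (S.ab C hN hq hZ)]
    apply Subgroup.closure_mono
    rintro g ⟨u, w, _, h2, h3, h4⟩
    exact ⟨u, w, h2, h3, h4⟩

/-- `L ≃ Ω(U,Q)` -/
noncomputable def eL : L ≃* ↥((L.subgroupOf (HH d t)).map (ρ₀ ρ d t)) :=
  (subgroupOfEquivOfLe S.L_le).symm.trans ((L.subgroupOf (HH d t)).equivMapOfInjective _ (S.ρ₀_inj C))

theorem eL_coe (l : L) : ((eL C S l : ↥((L.subgroupOf (HH d t)).map (ρ₀ ρ d t))) : UU ρ t ≃ₗ[ZMod 2] UU ρ t) =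
    ρ₀ ρ d t ⟨l, S.L_le l.2⟩ := rfl

theorem eL_apply (l : L) (u : UU ρ t) : ((((((L.subgroupOf (HH d t)).map (ρ₀ ρ d t)).subtype.comp
    (eL C S).toMonoidHom) l) u : UU ρ t) : V) = ρ (l : H) u := rfl

omit C in
theorem hcomm {s : H} (hs : s ∈ closure {d, t}) {l : H} (hl : l ∈ L) : s * l = l * s :=
  S.closure_comm hs (S.L_le hl)

theorem hdis (hN : L.Normal) (hq : IsQuasisimple L) (hZ : Odd (Nat.card (center L))) {g : H}
    (h1 : g ∈ closure {d, t}) (h2 : g ∈ L) : g = 1 := S.closure_inf C hN hq hZ h1 (S.L_le h2)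

/-- `⟨d,t⟩ = S₃` -/
theorem isS3 (hN : L.Normal) (hq : IsQuasisimple L) (hZ : Odd (Nat.card (center L))) :
    IsS3 (⟨d, subset_closure (by simp)⟩ : ↥(closure {d, t})) ⟨t, subset_closure (by simp)⟩ := by
  have hd : (d : H) ∈ closure {d, t} := subset_closure (by simp)
  have ht : (t : H) ∈ closure {d, t} := subset_closure (by simp)
  refine isS3_of ?_ ?_ ?_ ?_
  · rw [← orderOf_coe]; exact S.d_ord
  · rw [← orderOf_coe]; exact S.t_ord
  · exact Subtype.ext S.conj
  · rintro ⟨g, hg⟩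
    have key : ∀ i j : ℤ, g = d ^ i * t ^ j → ∃ x ∈ zpowers (⟨d, hd⟩ : ↥(closure {d, t})),
        ∃ y ∈ zpowers (⟨t, ht⟩ : ↥(closure {d, t})), (⟨g, hg⟩ : ↥(closure {d, t})) = x * y := by
      intro i j h
      exact ⟨_, ⟨i, rfl⟩, _, ⟨j, rfl⟩, Subtype.ext h⟩
    rcases S.cent_L C hN hq hZ (g := g) (fun l hl => (hcomm S hg hl).symm) with h | h | h | h | h | h
    · exact key 0 0 (by rw [h]; simp)
    · exact key 0 1 (by rw [h]; simp)
    · exact key 1 0 (by rw [h]; simp)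
    · exact key 1 1 (by rw [h]; simp)
    · exact key (-1) 0 (by rw [h]; simp)
    · exact key (-1) 1 (by rw [h]; simp)

/-- **The system of `⟨d,t⟩ ⊔ L`.** -/
theorem exists_xout (hN : L.Normal) (hq : IsQuasisimple L) (hZ : Odd (Nat.card (center L))) {r : ℕ}
    {M₂ : Fin (r + 1) → Fin (r + 1) → ℕ} {q₂ : Fin (r + 1) → ℕ} {N₂ : ℕ}
    {T₀ B₀ : Subgroup ↥((L.subgroupOf (HH d t)).map (ρ₀ ρ d t))}
    {P₀ : Fin (r + 1) → Subgroup ↥((L.subgroupOf (HH d t)).map (ρ₀ ρ d t))}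
    (h : WOut ((L.subgroupOf (HH d t)).map (ρ₀ ρ d t)).subtype (⟨a, S.a_mem C⟩ : UU ρ t) (0 : Fin (r + 1)) M₂ q₂ N₂
      T₀ B₀ P₀) :
    ∃ T B P, XOut ρ a (closure {d, t} ⊔ L) M₂ q₂ N₂ T B P := by
  have hW := wout_comap (eL C S) h
  have h3 := isS3 C S hN hq hZ
  set f : ↥(closure {d, t} ⊔ L) ≃* ↥(closure {d, t}) × L :=
    supE (fun s hs l hl => hcomm S hs hl) (fun g h1 h2 => hdis C S hN hq hZ h1 h2) hN with hf
  have hspec : ∀ x : ↥(closure {d, t} ⊔ L), (x : H) = (f x).1 * (f x).2 := fun x => supE_spec _ _ _ x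
  have hmk : ∀ x : ↥(closure {d, t}) × L, ∃ y : ↥(closure {d, t} ⊔ L), f y = x ∧ (y : H) = x.1 * x.2 :=
    fun x => ⟨toSup _ _ (fun s hs l hl => hcomm S hs hl) x, supE_mk _ _ _ x, rfl⟩
  have hprod := prod h3.xsys hW.sys h3.xtr hW.tr
  have hmem : ∀ (K : Subgroup (↥(closure {d, t}) × L)) {y : ↥(closure {d, t} ⊔ L)} {x : ↥(closure {d, t}) × L},
      f y = x → x ∈ K → y ∈ K.comap f.toMonoidHom := by
    rintro K y _ rfl h
    exact h
  refine ⟨_, _, _, comap f hprod, ?_, ?_, ?_, ?_, ?_⟩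
  · -- fixed points
    intro v hv
    have ht : v ∈ UU ρ t := by
      obtain ⟨y, hy, hy'⟩ := hmk (⟨t, subset_closure (by simp)⟩, 1)
      have h1 := hv y (hmem _ hy (mem_prod.2 ⟨mem_zpowers _, one_mem _⟩))
      rw [hy'] at h1
      have e : (((⟨t, subset_closure (by simp)⟩ : ↥(closure {d, t})), (1 : L)).1 : H) *
          (((⟨t, subset_closure (by simp)⟩ : ↥(closure {d, t})), (1 : L)).2 : H) = t := by simp
      rw [e] at h1
      exact h1
    have h1 := hW.cen ⟨v, ht⟩ (by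
      intro l hl
      apply Subtype.ext
      rw [eL_apply]
      obtain ⟨y, hy, hy'⟩ := hmk (1, l)
      have h2 := hv y (hmem _ hy (mem_prod.2 ⟨one_mem _, hl⟩))
      rw [hy'] at h2
      have e : (((1 : ↥(closure {d, t})), l).1 : H) * (((1 : ↥(closure {d, t})), l).2 : H) = l := by simp
      rw [e] at h2
      exact h2)
    rcases h1 with h1 | h1
    · exact Or.inl (congrArg Subtype.val h1)
    · exact Or.inr (congrArg Subtype.val h1)
  · -- `d` moves `a`
    obtain ⟨y, hy, hy'⟩ := hmk (⟨d, subset_closure (by simp)⟩, 1)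
    refine ⟨y, hmem _ hy (mem_prod.2 ⟨mem_top _, one_mem _⟩), ?_⟩
    · rw [hy']
      have e : (((⟨d, subset_closure (by simp)⟩ : ↥(closure {d, t})), (1 : L)).1 : H) *
          (((⟨d, subset_closure (by simp)⟩ : ↥(closure {d, t})), (1 : L)).2 : H) = d := by simp
      rw [e]
      exact fun h0 => C.a_ne (S.d_fix a h0)
  · obtain ⟨l, hl, h1⟩ := hW.mov
    obtain ⟨y, hy, hy'⟩ := hmk (1, l)
    refine ⟨y, hmem _ hy (mem_prod.2 ⟨one_mem _, hl⟩), ?_⟩
    · rw [hy']
      have e : (((1 : ↥(closure {d, t})), l).1 : H) * (((1 : ↥(closure {d, t})), l).2 : H) = l := by simp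
      rw [e]
      exact fun h0 => h1 (Subtype.ext h0)
  · intro j hj x hx
    have hx' : f x ∈ (zpowers (⟨t, subset_closure (by simp)⟩ : ↥(closure {d, t}))).prod _ := hx
    obtain ⟨h1, h2⟩ := mem_prod.1 hx'
    have h4 := congrArg Subtype.val (hW.fix j hj (f x).2 h2)
    rw [eL_apply] at h4
    have h5 : ρ ((f x).1 : H) a = a := by
      rcases h3.mem_B.1 h1 with h6 | h6
      · rw [h6]
        show ρ 1 a = a
        rw [map_one]; rfl
      · rw [h6]
        exact C.X_a S.t_mem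
    have h4' : ρ ((f x).2 : H) a = a := h4
    rw [hspec x, C.ρ_mul, h4', h5]
  · have hc : Nat.card ↥(((zpowers (⟨t, subset_closure (by simp)⟩ : ↥(closure {d, t}))).prod
        (T₀.comap (eL C S).toMonoidHom)).comap f.toMonoidHom) =
        Nat.card ↥((zpowers (⟨t, subset_closure (by simp)⟩ : ↥(closure {d, t}))).prod
        (T₀.comap (eL C S).toMonoidHom)) := by
      refine Nat.card_congr
        { toFun := fun x => ⟨f x, x.2⟩
          invFun := fun x => ⟨f.symm x, hmem _ (f.apply_symm_apply x) x.2⟩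
          left_inv := fun x => Subtype.ext (f.symm_apply_apply x)
          right_inv := fun x => Subtype.ext (f.apply_symm_apply x) }
    rw [hc, Nat.card_congr (Subgroup.prodEquiv _ _).toEquiv, Nat.card_prod, h3.card_t, hW.card]

/-- **The system of `⟨d,t⟩ ⊔ L`: the two types.** -/
theorem main_sys (hN : L.Normal) (hq : IsQuasisimple L) (hZ : Odd (Nat.card (center L))) :
    (∃ n : ℕ, 1 ≤ n ∧ w = 2 * (n + 2) ∧ ∃ T B P, XOut ρ a (closure {d, t} ⊔ L) (r := n + 1)
      (fun i j => Cfsg.Agent.Nodes.TypeD.M n i j) (fun _ => 2) (2 ^ ((n + 2) * (n + 1))) T B P) ∨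
    (∃ m : ℕ, 1 ≤ m ∧ w = 2 * (m + 2) ∧ ∃ T B P, XOut ρ a (closure {d, t} ⊔ L) (r := m)
      (fun i j => CoxeterMatrix.B (m + 1) i j) (fun j => if (j : ℕ) = m then 4 else 2)
      (2 ^ ((m + 1) * m) * 4 ^ (m + 1)) T B P) := by
  obtain ⟨Q, hQ⟩ := S.exists_QD C hN hq hZ
  have A := S.ab C hN hq hZ
  have hS := A.sy
  have hfin := A.finite
  have hog := og C S hN hq hZ hQ
  have hcard := S.card_U C
  obtain ⟨k, W, hWe, hcd, hV⟩ := exists_wframe hS hQ.isQ (a := (⟨a, S.a_mem C⟩ : UU ρ t)) A.a_ne (hQ.Q_a A)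
  rw [hcard] at hcd
  rcases hV with hV | ⟨x, y, hV⟩
  · -- plus type
    left
    have h1 : Nat.card W.V0 = 1 := by rw [hV]; simp
    rw [h1, mul_one] at hcd
    have h2 : w = 2 * (k + 1) := Nat.pow_right_injective le_rfl hcd
    have h5 := C.five
    obtain ⟨n, rfl⟩ : ∃ n, k = n + 1 := ⟨k - 1, by omega⟩
    have hn : 1 ≤ n := by omega
    obtain ⟨T₀, B₀, P₀, hW⟩ := out_D hS hQ.isQ (W := W) hog hn hV
    refine ⟨n, hn, by omega, ?_⟩
    have hW' : WOut ((L.subgroupOf (HH d t)).map (ρ₀ ρ d t)).subtype (⟨a, S.a_mem C⟩ : UU ρ t) (0 : Fin (n + 1 + 1))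
      (fun i j => Cfsg.Agent.Nodes.TypeD.M n i j) (fun _ => 2) (2 ^ ((n + 2) * (n + 1))) T₀ B₀ P₀ := by
      rw [← hWe]; exact hW
    exact exists_xout C S hN hq hZ hW'
  · -- minus type
    right
    have h1 : Nat.card W.V0 = 4 := card_aniso hQ.isQ hV
    have h0 : (4 : ℕ) = 2 ^ 2 := by norm_num
    rw [h1, h0, ← pow_add] at hcd
    have h2 : w = 2 * (k + 1) + 2 := Nat.pow_right_injective le_rfl hcd
    have h5 := C.five
    have hk : 1 ≤ k := by omega
    have hev : Even (Module.finrank (ZMod 2) (UU ρ t)) := by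
      have h3 : Nat.card (UU ρ t) = 2 ^ Module.finrank (ZMod 2) (UU ρ t) := by
        rw [Module.natCard_eq_pow_finrank (K := ZMod 2) (V := UU ρ t), Nat.card_zmod]
      rw [hcard] at h3
      have h4 : w = Module.finrank (ZMod 2) (UU ρ t) := Nat.pow_right_injective le_rfl h3
      rw [← h4, h2]
      exact ⟨k + 2, by ring⟩
    obtain ⟨T₀, B₀, P₀, hW⟩ := out_C hS hQ.isQ (W := W) hog hk hV hev
    refine ⟨k, hk, by omega, ?_⟩
    have hW' : WOut ((L.subgroupOf (HH d t)).map (ρ₀ ρ d t)).subtype (⟨a, S.a_mem C⟩ : UU ρ t) (0 : Fin (k + 1))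
      (fun i j => CoxeterMatrix.B (k + 1) i j) (fun j => if (j : ℕ) = k then 4 else 2)
      (2 ^ ((k + 1) * k) * 4 ^ (k + 1)) T₀ B₀ P₀ := by
      rw [← hWe]; exact hW
    exact exists_xout C S hN hq hZ hW'

end

end Cfsg.Agent.Omega.EH3.RowS.SysOf

end

section


/-!
# RowS, BACK (helper73), part 7: the diagrams

`sumM M` : the Coxeter matrix of an isolated node and `M`; `eO r : Option (Unit ⊕ Fin r) ≃ Fin (r + 2)`.
`typeD_ext`, `typeB_ext` : joining the new node with the isolated node and the node `0` of `D_{n+2}`, `B_{m+1}` gives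
`D_{n+4}`, `B_{m+3}`.
-/

set_option autoImplicit false

namespace Cfsg.Agent.Omega.EH3.RowS.Diag

open Cfsg.Agent.Omega.EH3Close Cfsg.Agent.ParSys.RootEpsBD

/-- an isolated node and `M` -/
def sumM {J : Type*} (M : CoxeterMatrix J) : CoxeterMatrix (Unit ⊕ J) where
  M := Matrix.of fun
    | .inl _, .inl _ => 1
    | .inl _, .inr _ => 2
    | .inr _, .inl _ => 2
    | .inr i, .inr j => M i j
  isSymm := by
    ext i j
    rcases i with _ | i <;> rcases j with _ | j <;> try rfl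
    exact M.symmetric j i
  diagonal i := by
    rcases i with _ | i
    · rfl
    · exact M.diagonal i
  off_diagonal i j hij := by
    rcases i with _ | i <;> rcases j with _ | j
    · exact absurd rfl hij
    · show 2 ≠ 1
      decide
    · show 2 ≠ 1
      decide
    · exact M.off_diagonal i j fun h => hij (by rw [h])

variable {J : Type*} {M : CoxeterMatrix J}

theorem sumM_inl_inl (i j : Unit) : sumM M (.inl i) (.inl j) = 1 := rfl
theorem sumM_inl_inr (i : Unit) (j : J) : sumM M (.inl i) (.inr j) = 2 := rfl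
theorem sumM_inr_inl (i : J) (j : Unit) : sumM M (.inr i) (.inl j) = 2 := rfl
theorem sumM_inr_inr (i j : J) : sumM M (.inr i) (.inr j) = M i j := rfl

/-- the numbering -/
def eO (r : ℕ) : Option (Unit ⊕ Fin r) ≃ Fin (r + 2) where
  toFun
    | none => 1
    | some (.inl _) => 0
    | some (.inr j) => ⟨j + 2, by omega⟩
  invFun i := if h : (i : ℕ) < 2 then (if (i : ℕ) = 0 then some (.inl ()) else none) else some (.inr ⟨i - 2, by omega⟩)
  left_inv o := by
    rcases o with _ | ⟨_ | j⟩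
    · rfl
    · rfl
    · simp
  right_inv i := by
    dsimp only
    by_cases h : (i : ℕ) < 2
    · rw [dif_pos h]
      by_cases h0 : (i : ℕ) = 0
      · rw [if_pos h0]; exact Fin.ext h0.symm
      · rw [if_neg h0]
        exact Fin.ext (by show 1 = (i : ℕ); omega)
    · rw [dif_neg h]
      exact Fin.ext (by show (i : ℕ) - 2 + 2 = (i : ℕ); omega)

theorem eO_none (r : ℕ) : ((eO r none : Fin (r + 2)) : ℕ) = 1 := rfl
theorem eO_inl (r : ℕ) (u : Unit) : ((eO r (some (.inl u)) : Fin (r + 2)) : ℕ) = 0 := rfl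
theorem eO_inr (r : ℕ) (j : Fin r) : ((eO r (some (.inr j)) : Fin (r + 2)) : ℕ) = j + 2 := rfl

/-- the new node is joined with the isolated node and with `0` -/
def jn (r : ℕ) : Finset (Unit ⊕ Fin (r + 1)) := {Sum.inl (), Sum.inr 0}

theorem mem_jn_inl (r : ℕ) (u : Unit) : (Sum.inl u : Unit ⊕ Fin (r + 1)) ∈ jn r := by
  unfold jn; simp

theorem mem_jn_inr (r : ℕ) (j : Fin (r + 1)) : (Sum.inr j : Unit ⊕ Fin (r + 1)) ∈ jn r ↔ (j : ℕ) = 0 := by
  rw [jn, Finset.mem_insert, Finset.mem_singleton, Sum.inr.injEq, Fin.ext_iff]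
  constructor
  · rintro (h | h)
    · exact absurd h (by simp)
    · exact h
  · exact fun h => Or.inr h

theorem typeD_ext (n : ℕ) (hn : 1 ≤ n) :
    TypeD (m := n + 2) ((extM (sumM (Nodes.TypeD.M n)) (jn (n + 1))).reindex (eO (n + 2))) := by
  intro i j hij
  obtain ⟨i, rfl⟩ := (eO (n + 2)).surjective i
  obtain ⟨j, rfl⟩ := (eO (n + 2)).surjective j
  have hij' : i ≠ j := fun h => hij (by rw [h])
  rw [CoxeterMatrix.reindex_apply, Equiv.symm_apply_apply, Equiv.symm_apply_apply]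
  rcases i with _ | ⟨_ | i⟩ <;> rcases j with _ | ⟨_ | j⟩
  · exact absurd rfl hij'
  · rw [extM_none_some, if_pos (mem_jn_inl _ _), eO_none, eO_inl]; simp
  · rw [extM_none_some, eO_none, eO_inr]
    simp only [mem_jn_inr]
    split_ifs <;> omega
  · rw [extM_some_none, if_pos (mem_jn_inl _ _), eO_none, eO_inl]; simp
  · exact absurd rfl hij'
  · rw [extM_some_some, sumM_inl_inr, eO_inl, eO_inr, if_neg (by omega)]
  · rw [extM_some_none, eO_none, eO_inr]
    simp only [mem_jn_inr]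
    split_ifs <;> omega
  · rw [extM_some_some, sumM_inr_inl, eO_inl, eO_inr, if_neg (by omega)]
  · have h1 : i ≠ j := fun h => hij' (by rw [h])
    rw [extM_some_some, sumM_inr_inr, eO_inr, eO_inr, Nodes.TypeD.M_apply, if_neg h1]
    have hi := i.2
    have hj := j.2
    refine if_congr ?_ rfl rfl
    simp only [Nodes.TypeD.Adj]
    omega

theorem B_apply (n : ℕ) (i j : Fin n) : CoxeterMatrix.B n i j = if i = j then 1
    else (if (i : ℕ) = n - 1 ∧ (j : ℕ) = n - 2 ∨ (j : ℕ) = n - 1 ∧ (i : ℕ) = n - 2 then 4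
      else (if (j : ℕ) + 1 = i ∨ (i : ℕ) + 1 = j then 3 else 2)) := rfl

theorem typeB_ext (m : ℕ) (hm : 1 ≤ m) :
    TypeB (m := m + 2) ((extM (sumM (CoxeterMatrix.B (m + 1))) (jn m)).reindex (eO (m + 1))) := by
  intro i j hij
  obtain ⟨i, rfl⟩ := (eO (m + 1)).surjective i
  obtain ⟨j, rfl⟩ := (eO (m + 1)).surjective j
  have hij' : i ≠ j := fun h => hij (by rw [h])
  rw [CoxeterMatrix.reindex_apply, Equiv.symm_apply_apply, Equiv.symm_apply_apply]
  rcases i with _ | ⟨_ | i⟩ <;> rcases j with _ | ⟨_ | j⟩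
  · exact absurd rfl hij'
  · rw [extM_none_some, if_pos (mem_jn_inl _ _), eO_none, eO_inl, if_neg (by omega), if_pos (by omega)]
  · rw [extM_none_some, eO_none, eO_inr]
    simp only [mem_jn_inr]
    split_ifs <;> omega
  · rw [extM_some_none, if_pos (mem_jn_inl _ _), eO_none, eO_inl, if_neg (by omega), if_pos (by omega)]
  · exact absurd rfl hij'
  · rw [extM_some_some, sumM_inl_inr, eO_inl, eO_inr, if_neg (by omega), if_neg (by omega)]
  · rw [extM_some_none, eO_none, eO_inr]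
    simp only [mem_jn_inr]
    split_ifs <;> omega
  · rw [extM_some_some, sumM_inr_inl, eO_inl, eO_inr, if_neg (by omega), if_neg (by omega)]
  · have h1 : i ≠ j := fun h => hij' (by rw [h])
    rw [extM_some_some, sumM_inr_inr, eO_inr, eO_inr, B_apply, if_neg h1]
    have hi := i.2
    have hj := j.2
    split_ifs <;> omega

end Cfsg.Agent.Omega.EH3.RowS.Diag

end
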