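import Cfsg.Agent.Mrg.Omega.EH3.Main
import Cfsg.Agent.Mrg.Omega.EH3Close.Glue
import Cfsg.Agent.Mrg.Omega.EH3.RowS.XWitt
import Cfsg.Agent.Mrg.Omega.EH3.RowS.FrontTwo
import Cfsg.Agent.Mrg.ParSys.FreeLie


/-!
# RowS, BACK (helper73), part 9: `A ⊔ M0 = ⊤` implies that `G` is known

`known_of_xout`; `rowS_of_top` : `TopS → Main.RowS K`, with
`TopS` : in the `S₃`-case `⟨A, M0⟩ = G`, `M0` the preimage of `⟨d,t⟩ × L` in `C_G(z)`.
-/

set_option autoImplicit false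

namespace Cfsg.Agent.Omega.EH3.RowS.Known

open Cfsg Subgroup Cfsg.Agent.ParSys Cfsg.Agent.Omega.ThmID Cfsg.Agent.Omega.EH3 Cfsg.Agent.Omega.EH3Close
  Cfsg.Agent.Omega.EH3Close.Glue Cfsg.Agent.Co2Type.Quad Cfsg.Agent.LargeExtra.Base
  Cfsg.Agent.Omega.EH3.RowS.SysOf Cfsg.Agent.Omega.EH3.RowS.Diag Cfsg.Agent.ParSys.FreeCount
open Cfsg.Agent.Omega.EH3.Main (Sit STriple)
open Cfsg.Agent.Omega.Frame (Ctx Cls All)

universe u

theorem known_of_eq_top {G : Type u} [Group G] [IsSimpleGroup G] (hna : ¬ IsMulCommutative G) {X : Subgroup G}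
    (hX : X = ⊤) (h : IsSimpleGroup X → IsKnownSimple' X) : IsKnownSimple' G := by
  have e : X ≃* G := (MulEquiv.subgroupCongr hX).trans Subgroup.topEquiv
  have hs : IsSimpleGroup X := OddHalf.Known.isSimple_congr e.symm inferInstance
  exact OddHalf.Known.isKnownSimple'_congr e (Exits.not_comm_congr e.symm hna) (h hs)

section

variable {G : Type u} [Group G] [Finite G] {Q A : Subgroup G} {z a : G} {w : ℕ}

theorem known_of_xout (S : Sit Q A z a w) {N : Subgroup S.pair.H} (hN : N.Normal)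
    (hodd : ∀ g : S.pair.H, Odd (orderOf g) → g ∈ N) (hX0 : S.X ≤ N) {r : ℕ} {M₂ : CoxeterMatrix (Fin (r + 1))}
    {q₂ : Fin (r + 1) → ℕ} {N₂ : ℕ} {T B : Subgroup N} {P : Unit ⊕ Fin (r + 1) → Subgroup N}
    (h : XOut S.ρ S.pair.va N (fun i j => M₂ i j) q₂ N₂ T B P) (htwo : ∀ j, 2 ≤ q₂ j) (hq0 : q₂ 0 = 2) {k : ℕ}
    (hQ : HasQ (extM (sumM M₂) (jn r)) (qq (Sum.elim (fun _ => 2) q₂)) k)
    (hcard : 2 ^ (2 * w + 1) * (2 * N₂) = k)
    (hconn : ∀ J : Set (Option (Unit ⊕ Fin (r + 1))), J.Nonempty → Jᶜ.Nonempty →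
      ∃ i ∈ J, ∃ j ∈ Jᶜ, extM (sumM M₂) (jn r) i j ≠ 2)
    (h3 : 3 ≤ Nat.card (Option (Unit ⊕ Fin (r + 1)))) (htop : A ⊔ MM S.pair N = ⊤) : IsKnownSimple' G := by
  have hsimple := S.ctx.simple
  have hs := XEnd.sys S.cfg hN hodd hX0 h.sys h.fixT (extM (sumM M₂) (jn r)).toCoxeterSystem
    (by rintro (_ | i) (_ | j) <;> rfl)
    (by
      rintro (_ | j)
      · right
        refine ⟨?_, rfl, h.mov0⟩
        rw [extM_none_some, if_pos (mem_jn_inl _ _)]
      · by_cases hj : j = 0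
        · right
          subst hj
          refine ⟨?_, hq0, h.mov1⟩
          rw [extM_none_some, if_pos ((mem_jn_inr _ _).2 rfl)]
        · left
          refine ⟨?_, h.fix j hj⟩
          rw [extM_none_some, if_neg (fun h1 => hj (Fin.ext ((mem_jn_inr _ _).1 h1)))])
    (by
      rintro (_ | j)
      · exact le_rfl
      · exact htwo j)
  refine known_of_eq_top S.ctx.nonComm htop fun hsX => ?_
  refine Exits.known_lie (FreeLie.isLie hQ hs ?_ h3 hconn)
  have hle : up (phi S.pair N) T ≤ A ⊔ MM S.pair N := (up_le _ _).trans le_sup_right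
  rw [Nat.card_congr (Subgroup.subgroupOfEquivOfLe hle).toEquiv, card_up, S.card_Q, h.card]
  exact hcard

end

/-- in the `S₃`-case `⟨A, M0⟩ = G` -/
def TopS : Prop :=
  ∀ (G : Type u) [Group G] [Finite G] (Q A : Subgroup G) (z a : G) (w : ℕ) (S : Sit Q A z a w)
    (L : Subgroup S.pair.H), L.Normal → IsQuasisimple L → Odd (Nat.card (center L)) →
    ∀ d t, STriple S.ρ S.X L d t → ∀ Sg : Subgroup G,
    Lev Q A z a Sg (MM S.pair (closure {d, t} ⊔ L)) → A ⊔ MM S.pair (closure {d, t} ⊔ L) = ⊤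

theorem tri {H V : Type u} [Group H] [AddCommGroup V] [Module (ZMod 2) V] {ρ : H →* (V ≃ₗ[ZMod 2] V)}
    {X L : Subgroup H} {d t : H} (h : Main.STriple ρ X L d t) : Tri ρ X L d t where
  t_mem := h.t_mem
  t_ord := h.t_sq
  d_ord := h.d_ord
  conj := h.conj
  t_cent := h.t_cent
  d_cent := h.d_cent
  d_fix := h.d_fix
  d_norm := h.d_norm

theorem card_opt (r : ℕ) : Nat.card (Option (Unit ⊕ Fin r)) = r + 2 := by
  rw [Nat.card_congr (eO r), Nat.card_eq_fintype_card, Fintype.card_fin]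

theorem num_D (n : ℕ) : 2 ^ (2 * (2 * (n + 2)) + 1) * (2 * 2 ^ ((n + 2) * (n + 1))) = 2 ^ ((n + 2 + 2) * (n + 2 + 1)) := by
  rw [← pow_succ', ← pow_add]
  congr 1
  ring

theorem num_B (m : ℕ) : 2 ^ (2 * (2 * (m + 2)) + 1) * (2 * (2 ^ ((m + 1) * m) * 4 ^ (m + 1))) =
    2 ^ ((m + 2 + 1) * (m + 2)) * 4 ^ (m + 2 + 1) := by
  have h : (4 : ℕ) = 2 ^ 2 := by norm_num
  rw [h, ← pow_mul, ← pow_mul, ← pow_add, ← pow_succ', ← pow_add, ← pow_add]
  congr 1
  ring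

/-- **RowS from TopS** -/
theorem rowS_of_top (ht : TopS.{u}) (K : Cls.{u}) : Main.RowS K := by
  rintro G _ _ _ Q A z a w S L hN hq hZ ⟨d, t, h⟩
  have C := S.cfg
  have St := tri h
  have hNn := NormE.sup_normal C St hN hq hZ
  have hodd : ∀ g : S.pair.H, Odd (orderOf g) → g ∈ closure {d, t} ⊔ L := fun g hg => St.odd_mem C hN hq hZ hg
  have hX0 := NormE.X_le_sup C St hN hq hZ
  rcases SysOf.main_sys C St hN hq hZ with ⟨n, hn, hw, T, B, P, hx⟩ | ⟨m, hm, hw, T, B, P, hx⟩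
  · have htop := ht G Q A z a w S L hN hq hZ d t h _ (XEnd.lev hNn hodd hX0 hx.sys hx.fixT)
    refine known_of_xout S hNn hodd hX0 (M₂ := Nodes.TypeD.M n) hx (fun _ => le_rfl) rfl
      (hasQ_D (eO (n + 2)) (typeD_ext n hn) (x := 2) ?_) ?_
      (conn_D (eO (n + 2)) (by omega) (typeD_ext n hn)) ?_ htop
    · rintro (_ | _ | _) <;> rfl
    · rw [hw]; exact num_D n
    · rw [card_opt]; omega
  · have htop := ht G Q A z a w S L hN hq hZ d t h _ (XEnd.lev hNn hodd hX0 hx.sys hx.fixT)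
    refine known_of_xout S hNn hodd hX0 (M₂ := CoxeterMatrix.B (m + 1)) hx ?_ ?_
      (hasQ_B (eO (m + 1)) (typeB_ext m hm) (x := 2) (y := 4) ?_) ?_
      (conn_B (eO (m + 1)) (typeB_ext m hm)) ?_ htop
    · intro j
      show 2 ≤ if (j : ℕ) = m then 4 else 2
      split_ifs <;> omega
    · show (if ((0 : Fin (m + 1)) : ℕ) = m then 4 else 2) = 2
      rw [if_neg (by rw [Fin.val_zero]; omega)]
    · rintro (_ | _ | j)
      · rw [eO_none, if_neg (by omega)]; rfl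
      · rw [eO_inl, if_neg (by omega)]; rfl
      · rw [eO_inr]
        show (if (j : ℕ) = m then 4 else 2) = _
        refine if_congr ?_ rfl rfl
        omega
    · rw [hw]; exact num_B m
    · rw [card_opt]; omega

end Cfsg.Agent.Omega.EH3.RowS.Known
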