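import Cfsg.Agent.Omega.EH3.RowS.FormTwo
import Cfsg.Agent.Mrg.Omega.W5.NearTI
import Cfsg.Agent.Lib.ComponentSolvable

section


/-!
# EH3, the `S₃ × Ω_w(2)`-row: the tensor structure (helper888)

`Tri ρ X L d t` : an involution `t ∈ X` and `d` of order 3 inverted by `t`, `⟨d⟩` normal in `H`, `ρ d` without fixed
points, `t`, `d` centralise `L`.  `U = C_V(t)`, `V = U ⊕ ρ(d) U`, `gam u v = b u (ρ d v)` on `U`, `H₀ = C_H({d, t})`.
-/

set_option autoImplicit false

namespace Cfsg.Agent.Omega.EH3.RowS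

open Subgroup
open scoped commutatorElement

/-- the `S₃`-case (universe polymorphic version of `Main.STriple`) -/
structure Tri {H V : Type*} [Group H] [AddCommGroup V] [Module (ZMod 2) V] (ρ : H →* (V ≃ₗ[ZMod 2] V))
    (X L : Subgroup H) (d t : H) : Prop where
  t_mem : t ∈ X
  t_ord : orderOf t = 2
  d_ord : orderOf d = 3
  conj : t * d * t⁻¹ = d⁻¹
  t_cent : ∀ l ∈ L, t * l = l * t
  d_cent : ∀ l ∈ L, d * l = l * d
  d_fix : ∀ v, ρ d v = v → v = 0
  d_norm : (zpowers d).Normal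

/-- `C_V(t)` -/
def UU {H V : Type*} [Group H] [AddCommGroup V] [Module (ZMod 2) V] (ρ : H →* (V ≃ₗ[ZMod 2] V))
    (t : H) : Submodule (ZMod 2) V where
  carrier := {v | ρ t v = v}
  zero_mem' := map_zero _
  add_mem' := fun {u v} hu hv => by
    show ρ t (u + v) = u + v
    rw [map_add, hu, hv]
  smul_mem' := fun k u hu => by
    show ρ t (k • u) = k • u
    rw [map_smul, hu]

theorem mem_UU {H V : Type*} [Group H] [AddCommGroup V] [Module (ZMod 2) V]
    {ρ : H →* (V ≃ₗ[ZMod 2] V)} {t : H} {v : V} : v ∈ UU ρ t ↔ ρ t v = v := Iff.rfl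

namespace Tri

variable {H V : Type*} [Group H] [AddCommGroup V] [Module (ZMod 2) V]
  {ρ : H →* (V ≃ₗ[ZMod 2] V)} {b : LinearMap.BilinForm (ZMod 2) V} {q : V → ZMod 2}
  {a : V} {D : Submodule (ZMod 2) V} {X : Subgroup H} {w : ℕ} {L : Subgroup H} {d t : H}

theorem ddd (S : Tri ρ X L d t) : d * d * d = 1 := by
  have := pow_orderOf_eq_one d
  rw [S.d_ord, pow_succ, pow_two] at this
  exact this

theorem d_inv (S : Tri ρ X L d t) : d⁻¹ = d * d := by
  rw [inv_eq_iff_mul_eq_one, ← mul_assoc]; exact S.ddd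

theorem td (S : Tri ρ X L d t) : t * d = d * d * t := by
  have h := S.conj
  rw [S.d_inv, mul_inv_eq_iff_eq_mul] at h
  exact h

theorem tt (S : Tri ρ X L d t) : t * t = 1 := by
  have := pow_orderOf_eq_one t
  rw [S.t_ord, pow_two] at this
  exact this

theorem t_ne (S : Tri ρ X L d t) : t ≠ 1 := by
  intro h
  have := S.t_ord
  rw [h, orderOf_one] at this
  omega

theorem d_ne (S : Tri ρ X L d t) : d ≠ 1 := by
  intro h
  have := S.d_ord
  rw [h, orderOf_one] at this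
  omega

theorem dd_ne (S : Tri ρ X L d t) : d ≠ d * d := by
  intro h
  exact S.d_ne (left_eq_mul.1 h)

variable (C : Cfg ρ b q a D X w) (S : Tri ρ X L d t)
include C S

/-- `1 + ω + ω² = 0` -/
theorem om (v : V) : ρ d (ρ d v) = v + ρ d v := by
  have h : ρ d (v + ρ d v + ρ d (ρ d v)) = v + ρ d v + ρ d (ρ d v) := by
    rw [map_add, map_add, ← C.ρ_mul d d v, ← C.ρ_mul d (d * d) v, ← mul_assoc, S.ddd, C.ρ_one]
    abel
  have h1 := S.d_fix _ h
  exact (C.add_eq_zero.1 h1).symm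

theorem t_om (v : V) : ρ t (ρ d v) = ρ t v + ρ d (ρ t v) := by
  rw [← C.ρ_mul, S.td, C.ρ_mul, C.ρ_mul, S.om C]

theorem tt_app (v : V) : ρ t (ρ t v) = v := by rw [← C.ρ_mul, S.tt, C.ρ_one]

theorem add_t_mem (v : V) : v + ρ t v ∈ UU ρ t := by
  rw [mem_UU, map_add, S.tt_app C, add_comm]

/-- the decomposition `V = U + ρ(d) U` -/
theorem dec (v : V) : ∃ u ∈ UU ρ t, ∃ u' ∈ UU ρ t, v = u + ρ d u' := by
  refine ⟨v + ρ d (v + ρ t v), ?_, v + ρ t v, S.add_t_mem C v, ?_⟩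
  · have h := S.add_t_mem C v
    rw [mem_UU] at h ⊢
    rw [map_add, S.t_om C, h]
    have : ρ t v + (v + ρ t v + ρ d (v + ρ t v)) = v + ρ d (v + ρ t v) + (ρ t v + ρ t v) := by abel
    rw [this, C.add_self, add_zero]
  · rw [C.add_add_self]

theorem dec_zero {u u' : V} (hu : u ∈ UU ρ t) (hu' : u' ∈ UU ρ t) (h : u + ρ d u' = 0) :
    u = 0 ∧ u' = 0 := by
  have h1 : u = ρ d u' := C.add_eq_zero.1 h
  have h2 : ρ t u = u := hu
  rw [h1, S.t_om C, mem_UU.1 hu'] at h2
  have h3 : u' = 0 := by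
    have := C.add_add_self u' (ρ d u')
    rw [h2, C.add_self] at this
    exact this.symm
  exact ⟨by rw [h1, h3, map_zero], h3⟩

theorem dec_uniq {u u' v v' : V} (hu : u ∈ UU ρ t) (hu' : u' ∈ UU ρ t) (hv : v ∈ UU ρ t)
    (hv' : v' ∈ UU ρ t) (h : u + ρ d u' = v + ρ d v') : u = v ∧ u' = v' := by
  have h1 : (u + v) + ρ d (u' + v') = 0 := by
    rw [map_add]
    have : u + v + (ρ d u' + ρ d v') = (u + ρ d u') + (v + ρ d v') := by abel
    rw [this, h, C.add_self]
  obtain ⟨h2, h3⟩ := S.dec_zero C (add_mem hu hv) (add_mem hu' hv') h1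
  exact ⟨C.add_eq_zero.1 h2, C.add_eq_zero.1 h3⟩

theorem card_U : Nat.card (UU ρ t) = 2 ^ w := by
  have := C.finite_V
  have h1 : Nat.card (UU ρ t × UU ρ t) = Nat.card V := by
    refine Nat.card_congr (Equiv.ofBijective
      (fun p : UU ρ t × UU ρ t => (p.1 : V) + ρ d (p.2 : V)) ⟨?_, ?_⟩)
    · rintro ⟨u, u'⟩ ⟨v, v'⟩ h
      obtain ⟨h1, h2⟩ := S.dec_uniq C u.2 u'.2 v.2 v'.2 h
      exact Prod.ext (Subtype.ext h1) (Subtype.ext h2)
    · intro v
      obtain ⟨u, hu, u', hu', h⟩ := S.dec C v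
      exact ⟨(⟨u, hu⟩, ⟨u', hu'⟩), h.symm⟩
  rw [Nat.card_prod, C.card_V, two_mul, pow_add] at h1
  exact Nat.mul_self_inj.1 h1

theorem a_mem : a ∈ UU ρ t := C.X_a S.t_mem

/-- `U` is isotropic -/
theorem b_U {u v : V} (hu : u ∈ UU ρ t) (hv : v ∈ UU ρ t) : b u v = 0 := by
  have h1 : b u (ρ t (ρ d v)) = b u (ρ d v) := by
    nth_rewrite 1 [← mem_UU.1 hu]
    exact C.b_inv t u (ρ d v)
  rw [S.t_om C, mem_UU.1 hv, map_add] at h1
  exact add_eq_right.1 h1

theorem gam_symm {u v : V} (hu : u ∈ UU ρ t) (hv : v ∈ UU ρ t) :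
    b u (ρ d v) = b v (ρ d u) := by
  have h1 : b u (ρ d v) = b (ρ d u) (v + ρ d v) := by
    rw [← S.om C v, C.b_inv]
  rw [map_add, C.b_inv, S.b_U C hu hv, add_zero] at h1
  rw [h1, C.b_comm]

theorem q_U {u : V} : q u = b u (ρ d u) := by
  have h1 := C.q_add u (ρ d u)
  rw [← S.om C u, C.q_inv, C.q_inv, CharTwo.add_self_eq_zero, zero_add] at h1
  exact h1

/-- `b (u + ω u') (v + ω v')` -/
theorem b_dec {u u' v v' : V} (hu : u ∈ UU ρ t) (hu' : u' ∈ UU ρ t) (hv : v ∈ UU ρ t)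
    (hv' : v' ∈ UU ρ t) : b (u + ρ d u') (v + ρ d v') = b u (ρ d v') + b v (ρ d u') := by
  rw [map_add, map_add, LinearMap.add_apply, LinearMap.add_apply, C.b_inv, S.b_U C hu hv,
    S.b_U C hu' hv', C.b_comm (ρ d u') v]
  ring

theorem eq_of_gam {u' : V} (hu' : u' ∈ UU ρ t)
    (h : ∀ u ∈ UU ρ t, b a (ρ d u) = 0 → b u (ρ d u') = 0) : u' = 0 ∨ u' = a := by
  apply C.eq_of_perp
  intro v hv
  obtain ⟨u1, h1, u2, h2, rfl⟩ := S.dec C v
  rw [map_add, S.b_U C (S.a_mem C) h1, zero_add] at hv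
  rw [map_add, S.b_U C hu' h1, zero_add, S.gam_symm C hu' h2]
  exact h u2 h2 hv

end Tri

/-- `H₀ = C_H({d, t})` -/
def HH {H : Type*} [Group H] (d t : H) : Subgroup H := centralizer {d, t}

theorem mem_HH {H : Type*} [Group H] {d t h : H} : h ∈ HH d t ↔ d * h = h * d ∧ t * h = h * t := by
  constructor
  · intro hh
    exact ⟨mem_centralizer_iff.1 hh d (by simp), mem_centralizer_iff.1 hh t (by simp)⟩
  · rintro ⟨h1, h2⟩
    rw [HH, mem_centralizer_iff]
    rintro g (rfl | hg)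
    · exact h1
    · rw [Set.mem_singleton_iff] at hg
      rw [hg]; exact h2

namespace Tri

variable {H V : Type*} [Group H] [AddCommGroup V] [Module (ZMod 2) V]
  {ρ : H →* (V ≃ₗ[ZMod 2] V)} {b : LinearMap.BilinForm (ZMod 2) V} {q : V → ZMod 2}
  {a : V} {D : Submodule (ZMod 2) V} {X : Subgroup H} {w : ℕ} {L : Subgroup H} {d t : H}

theorem L_le (S : Tri ρ X L d t) : L ≤ HH d t := fun l hl =>
  mem_HH.2 ⟨S.d_cent l hl, S.t_cent l hl⟩

theorem t_not_mem (S : Tri ρ X L d t) : t ∉ HH d t := by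
  intro h
  have h1 := (mem_HH.1 h).1
  rw [S.td] at h1
  exact S.dd_ne (mul_right_cancel h1)

theorem inv_U {h : H} (hh : h ∈ HH d t) {u : V} (hu : u ∈ UU ρ t) : ρ h u ∈ UU ρ t := by
  rw [mem_UU] at hu ⊢
  have h1 : ρ (t * h) u = ρ (h * t) u := by rw [(mem_HH.1 hh).2]
  rw [map_mul, map_mul] at h1
  have h2 : ρ t (ρ h u) = ρ h (ρ t u) := h1
  rw [h2, hu]

theorem comm_om {h : H} (hh : h ∈ HH d t) (v : V) : ρ h (ρ d v) = ρ d (ρ h v) := by
  have h1 : ρ (d * h) v = ρ (h * d) v := by rw [(mem_HH.1 hh).1]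
  rw [map_mul, map_mul] at h1
  exact h1.symm

theorem mem_zp (S : Tri ρ X L d t) [Finite H] {g : H} (hg : g ∈ zpowers d) :
    g = 1 ∨ g = d ∨ g = d * d := by
  classical
  rw [mem_zpowers_iff_mem_range_orderOf, S.d_ord, Finset.mem_image] at hg
  obtain ⟨k, hk, rfl⟩ := hg
  rw [Finset.mem_range] at hk
  interval_cases k
  · left; rw [pow_zero]
  · right; left; rw [pow_one]
  · right; right; rw [pow_two]

variable (C : Cfg ρ b q a D X w) (S : Tri ρ X L d t)
include C S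

/-- `X = ⟨t⟩ × X₀` -/
theorem X_split {x : H} (hx : x ∈ X) : x ∈ HH d t ∨ t * x ∈ HH d t := by
  have := C.finite_H
  have h1 : x * d * x⁻¹ ∈ zpowers d := S.d_norm.conj_mem d (mem_zpowers d) x
  have htx : t * x = x * t := C.X_comm S.t_mem hx
  rcases S.mem_zp h1 with h2 | h2 | h2
  · exfalso
    apply S.d_ne
    have : d = x⁻¹ * (x * d * x⁻¹) * x := by group
    rw [this, h2]; group
  · left
    exact mem_HH.2 ⟨(mul_inv_eq_iff_eq_mul.1 h2).symm, htx⟩
  · right
    have h3 : x * d = d * d * x := mul_inv_eq_iff_eq_mul.1 h2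
    refine mem_HH.2 ⟨?_, ?_⟩
    · calc d * (t * x) = d * (t * x) := rfl
        _ = (d * d * d) * d * t * x := by rw [S.ddd]; group
        _ = (d * d) * (d * d * t) * x := by group
        _ = d * d * (t * d) * x := by rw [S.td]
        _ = (d * d * t) * d * x := by group
        _ = t * d * d * x := by rw [← S.td]
        _ = t * (d * d * x) := by group
        _ = t * (x * d) := by rw [h3]
        _ = t * x * d := by group
    · calc t * (t * x) = t * (x * t) := by rw [htx]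
        _ = t * x * t := by group

/-- replace `x ∈ X` by an element of `X₀` with the same action on `U` -/
theorem X_zero {x : H} (hx : x ∈ X) : ∃ y ∈ X, y ∈ HH d t ∧ (y = x ∨ y = t * x) ∧
    ∀ u ∈ UU ρ t, ρ y u = ρ x u := by
  rcases S.X_split C hx with h | h
  · exact ⟨x, hx, h, Or.inl rfl, fun _ _ => rfl⟩
  · refine ⟨t * x, X.mul_mem S.t_mem hx, h, Or.inr rfl, fun u hu => ?_⟩
    rw [C.X_comm S.t_mem hx, C.ρ_mul, mem_UU.1 hu]

/-- `U₁ = {u ∈ U | gam a u = 0} ≤ D` -/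
theorem U_le_D {u : V} (hu : u ∈ UU ρ t) (h : b a (ρ d u) = 0) : u ∈ D := by
  have h1 := C.X_perp t S.t_mem (ρ d u) h
  rw [S.t_om C, mem_UU.1 hu, add_assoc, C.add_self, add_zero] at h1
  exact h1

theorem D_U {u : V} (hu : u ∈ UU ρ t) (h : u ∈ D) : b a (ρ d u) = 0 := by
  by_contra hne
  have h1 := zmod_two_ne hne
  have h2 : ∀ v ∈ UU ρ t, v ∈ D := by
    intro v hv
    rcases zmod_two (b a (ρ d v)) with h3 | h3
    · exact S.U_le_D C hv h3
    · have h4 : u + v ∈ D := S.U_le_D C (add_mem hu hv) (by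
        rw [map_add, map_add, h1, h3]; decide)
      have h5 := D.add_mem h h4
      rwa [← add_assoc, C.add_self, zero_add] at h5
  obtain ⟨c, hc⟩ := C.exists_off
  have h3 := C.X_semi t S.t_mem c hc (by
    rw [add_comm]
    exact h2 _ (S.add_t_mem C c))
  exact S.t_ne h3

/-- elements of `X₀` on `U` -/
theorem exists_x {s : V} (h : b a (ρ d s) = 0) :
    ∃ x ∈ X, x ∈ HH d t ∧ ∀ u ∈ UU ρ t, b a (ρ d u) = 0 → ρ x u = u + b u (ρ d s) • a := by
  obtain ⟨x, hx, h1⟩ := C.X_all ((LinearMap.flip b) (ρ d s)) (by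
    rw [LinearMap.flip_apply]; exact h)
  obtain ⟨y, hy, hyH, -, h2⟩ := S.X_zero C hx
  refine ⟨y, hy, hyH, fun u hu hau => ?_⟩
  rw [h2 u hu, h1 u (S.U_le_D C hu hau), LinearMap.flip_apply]

/-- `X ∩ C(L) = ⟨t⟩` -/
theorem cent_X (hN : L.Normal) (hq : IsQuasisimple L) {x : H} (hx : x ∈ X)
    (h : ∀ l ∈ L, l * x = x * l) : x = 1 ∨ x = t := by
  have := C.finite_H
  have h1 := C.card_cent_le hN (Cfsg.Agent.Lib.ComponentSolvable.quasisimple_not_solvable hq)
  have h2 : zpowers t ≤ X ⊓ centralizer (L : Set H) := by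
    rw [zpowers_le]
    exact ⟨S.t_mem, mem_centralizer_iff.2 fun l hl => (S.t_cent l hl).symm⟩
  have h3 : zpowers t = X ⊓ centralizer (L : Set H) := by
    apply eq_of_le_of_card_ge h2
    rw [Nat.card_zpowers, S.t_ord]
    exact h1
  have h4 : x ∈ zpowers t := by
    rw [h3]
    exact ⟨hx, mem_centralizer_iff.2 h⟩
  classical
  rw [mem_zpowers_iff_mem_range_orderOf, S.t_ord, Finset.mem_image] at h4
  obtain ⟨k, hk, rfl⟩ := h4
  rw [Finset.mem_range] at hk
  interval_cases k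
  · left; rw [pow_zero]
  · right; rw [pow_one]

omit S in
theorem comm_abelian (hN : L.Normal) (hq : IsQuasisimple L) {R : Subgroup H}
    (hR : ∀ x ∈ R, x * x = 1) (hn : ∀ l ∈ L, ∀ x ∈ R, l * x * l⁻¹ ∈ R) :
    ∀ x ∈ R, ∀ l ∈ L, l * x = x * l := by
  have hfin := C.finite_H
  have hc : IsComponent L := ⟨hN.isSubnormal, hq⟩
  have hinv : ∀ x ∈ R, x⁻¹ = x := fun x hx => inv_eq_of_mul_eq_one_left (hR x hx)
  have hcomm : ∀ x ∈ R, ∀ y ∈ R, x * y = y * x := by
    intro x hx y hy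
    have h2 := hinv _ (R.mul_mem hx hy)
    rw [mul_inv_rev, hinv x hx, hinv y hy] at h2
    exact h2.symm
  have hsol : Group.IsSolvable R := by
    exact Group.isSolvable_of_comm fun x y => Subtype.ext (hcomm x x.2 y y.2)
  have hnor : L ≤ normalizer (R : Set H) := fun l hl =>
    mem_normalizer_fintype (S := (R : Set H)) (hn l hl)
  have h1 := Cfsg.Agent.Lib.ComponentSolvable.commutator_component_solvable_eq_bot hc hsol hnor
  intro x hx l hl
  have h2 : ⁅l, x⁆ ∈ ⁅L, R⁆ := commutator_mem_commutator hl hx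
  rw [h1, mem_bot, commutatorElement_eq_one_iff_mul_comm] at h2
  exact h2

/-- `L` moves `a` -/
theorem exists_move (hN : L.Normal) (hq : IsQuasisimple L) : ∃ l ∈ L, ρ l a ≠ a := by
  by_contra hcon
  push Not at hcon
  have h1 := comm_abelian C hN hq (R := X) C.X_sq (fun l hl x hx => C.X_norm l (hcon l hl) x hx)
  have h2 : (X : Set H) ⊆ {1, t} := by
    intro x hx
    rcases S.cent_X C hN hq hx (h1 x hx) with h | h
    · left; exact h
    · right; exact h
  have h3 := Set.ncard_le_ncard h2 (Set.toFinite _)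
  have h4 : ({1, t} : Set H).ncard ≤ 2 := (Set.ncard_insert_le _ _).trans (by
    rw [Set.ncard_singleton])
  have h5 : (X : Set H).ncard = Nat.card X := rfl
  have h6 := C.two_le_card_X
  omega

/-- **the orbit `a^L` has no radical in `U`** -/
theorem rad (hN : L.Normal) (hq : IsQuasisimple L) {u : V} (hu : u ∈ UU ρ t)
    (h : ∀ l ∈ L, b (ρ l a) (ρ d u) = 0) : u = 0 := by
  by_contra hu0
  have hfin := C.finite_H
  have haU := S.a_mem C
  let R : Submodule (ZMod 2) V :=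
    { carrier := {v | v ∈ UU ρ t ∧ ∀ l ∈ L, b (ρ l a) (ρ d v) = 0}
      zero_mem' := ⟨zero_mem _, fun l _ => by rw [map_zero, map_zero]⟩
      add_mem' := fun {v v'} hv hv' => ⟨add_mem hv.1 hv'.1, fun l hl => by
        rw [map_add, map_add, hv.2 l hl, hv'.2 l hl, add_zero]⟩
      smul_mem' := fun k v hv => ⟨Submodule.smul_mem _ k hv.1, fun l hl => by
        rw [map_smul, map_smul, hv.2 l hl, smul_zero]⟩ }
  have hRU : ∀ v ∈ R, v ∈ UU ρ t := fun v hv => hv.1
  -- `R` is `X`-invariant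
  have hRy : ∀ y ∈ HH d t, ρ y a = a → ∀ v ∈ R, ρ y v ∈ R := by
    intro y hyH hya v hv
    refine ⟨inv_U hyH hv.1, fun l hl => ?_⟩
    have h1 : y⁻¹ * l * y ∈ L := by
      have := hN.conj_mem l hl y⁻¹
      rwa [inv_inv] at this
    have h2 := hv.2 _ h1
    rw [← C.b_inv y, ← C.ρ_mul, show y * (y⁻¹ * l * y) = l * y by group, C.ρ_mul, hya,
      comm_om hyH] at h2
    exact h2
  have hRX : ∀ x ∈ X, ∀ v ∈ R, ρ x v ∈ R := by
    intro x hx v hv
    obtain ⟨y, hy, hyH, -, h1⟩ := S.X_zero C hx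
    rw [← h1 v hv.1]
    exact hRy y hyH (C.X_a hy) v hv
  have haR : a ∈ R := by
    apply C.a_mem_of_inv hRX
    intro h0
    have : u ∈ R := ⟨hu, h⟩
    rw [h0, Submodule.mem_bot] at this
    exact hu0 this
  have hlR : ∀ l ∈ L, ρ l a ∈ R := by
    intro l hl
    refine ⟨inv_U (S.L_le hl) haU, fun l' hl' => ?_⟩
    have h1 := haR.2 (l⁻¹ * l') (L.mul_mem (L.inv_mem hl) hl')
    rw [← C.b_inv l, ← C.ρ_mul, mul_inv_cancel_left, comm_om (S.L_le hl)] at h1
    exact h1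
  have hRL : ∀ l ∈ L, ∀ v ∈ R, ρ l v ∈ R := by
    intro l hl v hv
    refine ⟨inv_U (S.L_le hl) hv.1, fun l' hl' => ?_⟩
    have h1 := hv.2 (l⁻¹ * l') (L.mul_mem (L.inv_mem hl) hl')
    rw [← C.b_inv l, ← C.ρ_mul, mul_inv_cancel_left, comm_om (S.L_le hl)] at h1
    exact h1
  -- the group `K`
  let K : Subgroup H :=
    { carrier := {g | g ∈ HH d t ∧ (∀ r ∈ R, ρ g r = r) ∧ ∀ v ∈ UU ρ t, ρ g v + v ∈ R}
      one_mem' := ⟨one_mem _, fun r _ => C.ρ_one r, fun v _ => by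
        rw [C.ρ_one, C.add_self]; exact R.zero_mem⟩
      mul_mem' := by
        rintro g g' ⟨h1, h2, h3⟩ ⟨h1', h2', h3'⟩
        refine ⟨mul_mem h1 h1', fun r hr => by rw [C.ρ_mul, h2' r hr, h2 r hr], fun v hv => ?_⟩
        have e : ρ (g * g') v + v = ρ g (ρ g' v + v) + (ρ g v + v) := by
          rw [C.ρ_mul, map_add]
          have : ρ g (ρ g' v) + ρ g v + (ρ g v + v) = ρ g (ρ g' v) + v + (ρ g v + ρ g v) := by
            abel
          rw [this, C.add_self, add_zero]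
        rw [e, h2 _ (h3' v hv)]
        exact R.add_mem (h3' v hv) (h3 v hv)
      inv_mem' := by
        rintro g ⟨h1, h2, h3⟩
        refine ⟨inv_mem h1, fun r hr => C.fix_inv (h2 r hr), fun v hv => ?_⟩
        have h4 := h3 _ (inv_U (inv_mem h1) hv)
        rw [C.ρ_apply_inv, add_comm] at h4
        exact h4 }
  have hKsq : ∀ x ∈ K, x * x = 1 := by
    rintro g ⟨h1, h2, h3⟩
    have key : ∀ v ∈ UU ρ t, ρ (g * g) v = v := by
      intro v hv
      have h4 := h2 _ (h3 v hv)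
      rw [map_add] at h4
      rw [C.ρ_mul]
      have e : ρ g (ρ g v) = ρ g (ρ g v) + ρ g v + ρ g v := by rw [C.add_add_self]
      rw [e, h4]
      have : ρ g v + v + ρ g v = v + (ρ g v + ρ g v) := by abel
      rw [this, C.add_self, add_zero]
    apply C.ext
    intro v
    obtain ⟨u1, hu1, u2, hu2, rfl⟩ := S.dec C v
    rw [map_add, key u1 hu1, comm_om (mul_mem h1 h1), key u2 hu2, C.ρ_one]
  have hKn : ∀ l ∈ L, ∀ x ∈ K, l * x * l⁻¹ ∈ K := by
    rintro l hl g ⟨h1, h2, h3⟩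
    refine ⟨mul_mem (mul_mem (S.L_le hl) h1) (inv_mem (S.L_le hl)), fun r hr => ?_, fun v hv => ?_⟩
    · rw [C.ρ_mul, C.ρ_mul, h2 _ (hRL _ (L.inv_mem hl) r hr), C.ρ_apply_inv]
    · have h4 := hRL l hl _ (h3 _ (inv_U (inv_mem (S.L_le hl)) hv))
      rw [map_add, C.ρ_apply_inv, ← C.ρ_mul, ← C.ρ_mul] at h4
      exact h4
  have hKL := comm_abelian C hN hq hKsq hKn
  -- `L` fixes `a`
  obtain ⟨l, hl, hla⟩ := S.exists_move C hN hq
  apply hla
  have hsR := hlR l hl
  have hsU := hRU _ hsR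
  have has : b a (ρ d (ρ l a)) = 0 := by
    have := hsR.2 1 L.one_mem
    rwa [C.ρ_one] at this
  obtain ⟨x, hx, hxH, hxu⟩ := S.exists_x C has
  have hxa := C.X_a hx
  have hxK : x ∈ K := by
    refine ⟨hxH, fun r hr => ?_, fun v hv => ?_⟩
    · have h1 : b a (ρ d r) = 0 := by
        have := hr.2 1 L.one_mem
        rwa [C.ρ_one] at this
      rw [hxu r hr.1 h1, S.gam_symm C hr.1 hsU, hr.2 l hl, zero_smul, add_zero]
    · rcases zmod_two (b a (ρ d v)) with h1 | h1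
      · rw [hxu v hv h1]
        have : v + b v (ρ d (ρ l a)) • a + v = b v (ρ d (ρ l a)) • a + (v + v) := by abel
        rw [this, C.add_self, add_zero]
        exact R.smul_mem _ haR
      · -- `s = [v, x]`
        have hxv : ρ x v + v ∈ UU ρ t := add_mem (inv_U hxH hv) hv
        have h2 : ρ x v + v + ρ l a = 0 ∨ ρ x v + v + ρ l a = a := by
          apply S.eq_of_gam C (add_mem hxv hsU)
          intro u' hu' hau'
          have h3 : b (ρ x u') (ρ d (ρ x v)) = b u' (ρ d v) := by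
            rw [← comm_om hxH, C.b_inv]
          have h4 : b a (ρ d (ρ x v)) = 1 := by
            nth_rewrite 1 [← hxa]
            rw [← comm_om hxH, C.b_inv, h1]
          rw [hxu u' hu' hau', map_add, LinearMap.add_apply, map_smul, LinearMap.smul_apply, h4,
            smul_eq_mul, mul_one] at h3
          rw [map_add, map_add, map_add, map_add, ← h3]
          generalize b u' (ρ d (ρ x v)) = p
          generalize b u' (ρ d (ρ l a)) = r
          revert p r; decide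
        have h5 : ρ x v + v = (ρ x v + v + ρ l a) + ρ l a := by rw [C.add_add_self]
        rw [h5]
        refine R.add_mem ?_ hsR
        rcases h2 with h2 | h2
        · rw [h2]; exact R.zero_mem
        · rw [h2]; exact haR
  have hx1 : x = 1 := by
    rcases S.cent_X C hN hq hx (hKL x hxK) with h1 | h1
    · exact h1
    · exact absurd (h1 ▸ hxH) S.t_not_mem
  have h6 : ρ l a = 0 ∨ ρ l a = a := by
    apply S.eq_of_gam C hsU
    intro u' hu' hau'
    have h7 := hxu u' hu' hau'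
    rw [hx1, C.ρ_one] at h7
    rcases zmod_two (b u' (ρ d (ρ l a))) with h8 | h8
    · exact h8
    · rw [h8, one_smul] at h7
      exact absurd (left_eq_add.1 h7) C.a_ne
  rcases h6 with h6 | h6
  · exact absurd (C.ρ_inj l (by rw [h6, map_zero])) C.a_ne
  · exact h6

end Tri

end Cfsg.Agent.Omega.EH3.RowS

end

section


/-!
# EH3, the `S₃ × Ω_w(2)`-row: output of the front (helper888)

`C : Cfg ρ b q a D X w`, `S : Tri ρ X L d t`, `L ⊴ H` quasisimple.  `U = UU ρ t = C_V(t)`, `H₀ = HH d t = C_H({d, t})`.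

* `Tri.gam` : the form `gam u v = b u (ρ d v)` on `U`; `Tri.ρ₀` : the action of `H₀` on `U`; `Tri.X₀ = X ∩ H₀`;
* `Tri.q_U_zero` : `q = 0` on `U`; `Tri.q_dec` : `q (u + ρ d v) = gam u v`;
* `Tri.mem_D` : `D = {u + k ρ(d) a | gam a u = 0}`;
* `Tri.scfg` : `SCfg ρ₀ gam a X₀ w`; `Tri.exists_form` : the quadratic form on `U`.
-/

set_option autoImplicit false

namespace Cfsg.Agent.Omega.EH3.RowS

open Subgroup

namespace Tri

variable {H V : Type*} [Group H] [AddCommGroup V] [Module (ZMod 2) V]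
  {ρ : H →* (V ≃ₗ[ZMod 2] V)} {b : LinearMap.BilinForm (ZMod 2) V} {q : V → ZMod 2}
  {a : V} {D : Submodule (ZMod 2) V} {X : Subgroup H} {w : ℕ} {L : Subgroup H} {d t : H}

/-- `gam u v = b u (ρ d v)` -/
def gam (ρ : H →* (V ≃ₗ[ZMod 2] V)) (b : LinearMap.BilinForm (ZMod 2) V) (d t : H) :
    LinearMap.BilinForm (ZMod 2) (UU ρ t) :=
  LinearMap.mk₂ (ZMod 2) (fun u v => b (u : V) (ρ d (v : V)))
    (fun u u' v => by simp only [Submodule.coe_add, map_add, LinearMap.add_apply])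
    (fun k u v => by simp only [Submodule.coe_smul, map_smul, LinearMap.smul_apply])
    (fun u v v' => by simp only [Submodule.coe_add, map_add])
    (fun k u v => by simp only [Submodule.coe_smul, map_smul])

@[simp] theorem gam_apply (u v : UU ρ t) : gam ρ b d t u v = b (u : V) (ρ d (v : V)) := rfl

/-- the action of `H₀` on `U` -/
def ρ₀ (ρ : H →* (V ≃ₗ[ZMod 2] V)) (d t : H) : HH d t →* (UU ρ t ≃ₗ[ZMod 2] UU ρ t) where
  toFun h :=
    { toFun := fun u => ⟨ρ (h : H) (u : V), inv_U h.2 u.2⟩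
      map_add' := fun u v => Subtype.ext (by simp only [Submodule.coe_add, map_add])
      map_smul' := fun k u => Subtype.ext (by simp only [Submodule.coe_smul, map_smul, RingHom.id_apply])
      invFun := fun u => ⟨ρ (h : H)⁻¹ (u : V), inv_U (inv_mem h.2) u.2⟩
      left_inv := fun u => Subtype.ext (by
        show ρ (h : H)⁻¹ (ρ (h : H) (u : V)) = u
        rw [← LinearEquiv.mul_apply, ← map_mul, inv_mul_cancel, map_one]; rfl)
      right_inv := fun u => Subtype.ext (by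
        show ρ (h : H) (ρ (h : H)⁻¹ (u : V)) = u
        rw [← LinearEquiv.mul_apply, ← map_mul, mul_inv_cancel, map_one]; rfl) }
  map_one' := LinearEquiv.ext fun u => Subtype.ext (by
    show ρ ((1 : HH d t) : H) (u : V) = u
    rw [OneMemClass.coe_one, map_one]; rfl)
  map_mul' g h := LinearEquiv.ext fun u => Subtype.ext (by
    show ρ ((g * h : HH d t) : H) (u : V) = ρ (g : H) (ρ (h : H) (u : V))
    rw [Subgroup.coe_mul, map_mul]; rfl)

@[simp] theorem ρ₀_apply (h : HH d t) (u : UU ρ t) : ((ρ₀ ρ d t h u : UU ρ t) : V) = ρ (h : H) (u : V) := rfl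

variable (C : Cfg ρ b q a D X w) (S : Tri ρ X L d t)
include C S

/-- `U ≤ W` if `W` contains the orbit `a^L` -/
theorem U_le (hN : L.Normal) (hq : IsQuasisimple L) {W : Submodule (ZMod 2) V}
    (h : ∀ l ∈ L, ρ l a ∈ W) {v : V} (hv : v ∈ UU ρ t) : v ∈ W := by
  apply C.mem_of_perp W
  intro u' hu'
  obtain ⟨u1, h1, u2, h2, rfl⟩ := S.dec C u'
  have h3 : u2 = 0 := S.rad C hN hq h2 fun l hl => by
    have := hu' _ (h l hl)
    rwa [map_add, S.b_U C (inv_U (S.L_le hl) (S.a_mem C)) h1, zero_add] at this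
  rw [h3, map_zero, add_zero]
  exact S.b_U C h1 hv

theorem q_U_zero (hN : L.Normal) (hq : IsQuasisimple L) {u : V} (hu : u ∈ UU ρ t) : q u = 0 := by
  let W : Submodule (ZMod 2) V :=
    { carrier := {v | v ∈ UU ρ t ∧ q v = 0}
      zero_mem' := ⟨zero_mem _, C.q_zero⟩
      add_mem' := fun {v v'} hv hv' => ⟨add_mem hv.1 hv'.1, by
        rw [C.q_add, hv.2, hv'.2, S.b_U C hv.1 hv'.1, add_zero, add_zero]⟩
      smul_mem' := fun k v hv => ⟨Submodule.smul_mem _ k hv.1, by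
        rcases zmod_two k with h | h
        · rw [h, zero_smul]; exact C.q_zero
        · rw [h, one_smul]; exact hv.2⟩ }
  have h1 : ∀ l ∈ L, ρ l a ∈ W := fun l hl => ⟨inv_U (S.L_le hl) (S.a_mem C), by
    rw [C.q_inv, C.q_a]⟩
  have h : u ∈ W := S.U_le C hN hq h1 hu
  exact h.2

theorem q_dec (hN : L.Normal) (hq : IsQuasisimple L) {u v : V} (hu : u ∈ UU ρ t)
    (hv : v ∈ UU ρ t) : q (u + ρ d v) = b u (ρ d v) := by
  rw [C.q_add, C.q_inv, S.q_U_zero C hN hq hu, S.q_U_zero C hN hq hv, add_zero, zero_add]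

/-- the `U'`-component of `d' ∈ D` is `0` or `a` -/
theorem D_dec {d' u u' : V} (hd : d' ∈ D) (hu : u ∈ UU ρ t) (hu' : u' ∈ UU ρ t)
    (h : d' = u + ρ d u') : u' = 0 ∨ u' = a := by
  have h1 : ρ t d' = d' + u' := by
    rw [h, map_add, S.t_om C, mem_UU.1 hu, mem_UU.1 hu']
    abel
  rcases C.X_D t S.t_mem d' hd with h2 | h2
  · left; exact add_eq_left.1 (h1.symm.trans h2)
  · right; exact add_left_cancel (h1.symm.trans h2)

theorem om_a_mem (hN : L.Normal) (hq : IsQuasisimple L) : ρ d a ∈ D := by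
  apply C.perp_D
  intro d' hd'
  obtain ⟨u, hu, u', hu', h⟩ := S.dec C d'
  have ha := S.a_mem C
  have h1 : b d' (ρ d a) = b u (ρ d a) := by
    rw [h, map_add, LinearMap.add_apply, C.b_inv, S.b_U C hu' ha, add_zero]
  rw [h1]
  rcases S.D_dec C hd' hu hu' h with h2 | h2
  · rw [h2, map_zero, add_zero] at h
    rw [S.gam_symm C hu ha]
    exact S.D_U C hu (h ▸ hd')
  · have h3 := C.q_D d' hd'
    rw [h, h2, S.q_dec C hN hq hu ha] at h3
    exact h3

/-- **`D = U₁ ⊕ ⟨ρ(d) a⟩`** -/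
theorem mem_D (hN : L.Normal) (hq : IsQuasisimple L) {v : V} :
    v ∈ D ↔ ∃ u ∈ UU ρ t, b a (ρ d u) = 0 ∧ (v = u ∨ v = u + ρ d a) := by
  constructor
  · intro hv
    obtain ⟨u, hu, u', hu', h⟩ := S.dec C v
    have ha := S.a_mem C
    rcases S.D_dec C hv hu hu' h with h2 | h2
    · rw [h2, map_zero, add_zero] at h
      exact ⟨u, hu, S.D_U C hu (h ▸ hv), Or.inl h⟩
    · rw [h2] at h
      have h3 : u ∈ D := by
        have := D.add_mem hv (S.om_a_mem C hN hq)
        rwa [h, C.add_add_self] at this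
      exact ⟨u, hu, S.D_U C hu h3, Or.inr h⟩
  · rintro ⟨u, hu, h1, rfl | rfl⟩
    · exact S.U_le_D C hu h1
    · exact D.add_mem (S.U_le_D C hu h1) (S.om_a_mem C hN hq)

/-- **the symplectic configuration of `H₀` on `U`** -/
theorem scfg (hN : L.Normal) (hq : IsQuasisimple L) :
    SCfg (ρ₀ ρ d t) (gam ρ b d t) (⟨a, S.a_mem C⟩ : UU ρ t) (X.subgroupOf (HH d t)) w where
  five := C.five
  card_U := S.card_U C
  B_self := fun v => by
    rw [gam_apply, ← S.q_U C]
    exact S.q_U_zero C hN hq v.2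
  nondeg := fun v h => by
    apply Subtype.ext
    apply C.nondeg
    intro x
    obtain ⟨u1, h1, u2, h2, rfl⟩ := S.dec C x
    rw [map_add, S.b_U C v.2 h1, zero_add]
    exact h ⟨u2, h2⟩
  B_inv := fun h u v => by
    rw [gam_apply, gam_apply, ρ₀_apply, ρ₀_apply, ← comm_om h.2, C.b_inv]
  irr := by
    intro W hW
    by_cases h0 : W = ⊥
    · left; exact h0
    right
    rw [eq_top_iff]
    rintro ⟨v, hv⟩ -
    have h1 : ∀ x ∈ X, ∀ v ∈ W.map (UU ρ t).subtype, ρ x v ∈ W.map (UU ρ t).subtype := by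
      rintro x hx _ ⟨⟨v, hv⟩, hvW, rfl⟩
      obtain ⟨y, hy, hyH, -, h2⟩ := S.X_zero C hx
      refine ⟨_, hW ⟨y, hyH⟩ _ hvW, ?_⟩
      exact h2 v hv
    have h2 : W.map (UU ρ t).subtype ≠ ⊥ := by
      intro h
      apply h0
      rw [eq_bot_iff]
      intro x hx
      have h3 : (x : V) ∈ W.map (UU ρ t).subtype := ⟨x, hx, rfl⟩
      rw [h, Submodule.mem_bot] at h3
      exact (Submodule.mem_bot _).2 (Subtype.ext h3)
    obtain ⟨⟨a', ha'⟩, ha'W, ha'e⟩ := C.a_mem_of_inv h1 h2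
    have ha'e' : a' = a := ha'e
    subst ha'e'
    have h4 : ∀ l ∈ L, ρ l a' ∈ W.map (UU ρ t).subtype := fun l hl =>
      ⟨_, hW ⟨l, S.L_le hl⟩ _ ha'W, rfl⟩
    have h3 : v ∈ W.map (UU ρ t).subtype := S.U_le C hN hq h4 hv
    obtain ⟨⟨v', hv'⟩, hvW, he⟩ := h3
    have he' : v' = v := he
    subst he'
    exact hvW
  a_ne := fun h => C.a_ne (congrArg Subtype.val h)
  X_norm := by
    intro h hh x hx
    rw [mem_subgroupOf] at hx ⊢
    exact C.X_norm h (congrArg Subtype.val hh) x hx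
  X_a := by
    intro x hx
    exact Subtype.ext (C.X_a hx)
  X_perp := by
    intro x hx u hu
    rcases C.X_D x hx u (S.U_le_D C u.2 hu) with h | h
    · left; exact Subtype.ext h
    · right; exact Subtype.ext h
  X_all := by
    intro s hs
    obtain ⟨x, hx, hxH, h⟩ := S.exists_x C (s := (s : V)) hs
    exact ⟨⟨x, hxH⟩, hx, fun u hu => Subtype.ext (h u u.2 hu)⟩
  X_semi := by
    intro x hx h
    apply Subtype.ext
    have ha := S.a_mem C
    -- `c₀`
    obtain ⟨c, hc⟩ := C.exists_off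
    obtain ⟨c1, hc1, c0, hc0, rfl⟩ := S.dec C c
    rw [map_add, S.b_U C ha hc1, zero_add] at hc
    apply C.X_semi (x : H) hx (ρ d c0) hc
    have hxU : ρ (x : H) c0 ∈ UU ρ t := inv_U x.2 hc0
    rw [comm_om x.2, ← map_add]
    have h2 : ρ (x : H) c0 + c0 = 0 ∨ ρ (x : H) c0 + c0 = a := by
      apply S.eq_of_gam C (add_mem hxU hc0)
      intro u hu hau
      have h3 : ρ (x : H) u = u := congrArg Subtype.val (h ⟨u, hu⟩ hau)
      have h4 : b (ρ (x : H) u) (ρ (x : H) (ρ d c0)) = b u (ρ d c0) := C.b_inv _ _ _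
      rw [h3, comm_om x.2] at h4
      rw [map_add, map_add, h4, CharTwo.add_self_eq_zero]
    rcases h2 with h2 | h2
    · rw [h2, map_zero]; exact D.zero_mem
    · rw [h2]; exact S.om_a_mem C hN hq

/-- **the quadratic form on `U`** -/
theorem exists_form (hN : L.Normal) (hq : IsQuasisimple L) : ∃ f : UU ρ t → ZMod 2,
    Form (ρ₀ ρ d t) (gam ρ b d t) (⟨a, S.a_mem C⟩ : UU ρ t) f :=
  (S.scfg C hN hq).exists_form

end Tri

end Cfsg.Agent.Omega.EH3.RowS

end
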